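import Cfsg.Agent.Lib.ExtraNine.Conj

/-!
# A commuting conjugate outside the extraspecial subgroup, the central involution being weakly closed in it

The two centralisers in the extraspecial subgroups, their intersection, and the image of the one in the quotient of
the other.
-/

set_option autoImplicit false

namespace CfsgLib.ThType.Fusion

open Subgroup CfsgLib.ExtraNine CfsgLib.LargeExtra

variable {G : Type*} [Group G] {V : Type*} [AddCommGroup V] (N : Nine G V)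

/-- No other conjugate of the central involution lies in the extraspecial subgroup. -/
def Weak : Prop := ∀ h : G, h * N.z * h⁻¹ ∈ N.Q → h * N.z * h⁻¹ = N.z

/-- A commuting conjugate outside. -/
structure Out (g : G) : Prop where
  weak : Weak N
  comm : g * N.z * g⁻¹ * N.z = N.z * (g * N.z * g⁻¹)
  notMem : g * N.z * g⁻¹ ∉ N.Q

/-- The conjugate extraspecial subgroup. -/
def Qg (g : G) : Subgroup G := N.Q.map (MulAut.conj g).toMonoidHom

/-- The centraliser of the conjugate in the extraspecial subgroup. -/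
def sG (g : G) : Subgroup G := N.Q ⊓ centralizer ({g * N.z * g⁻¹} : Set G)

/-- The intersection of the two extraspecial subgroups. -/
def dG (g : G) : Subgroup G := N.Q ⊓ Qg N g

/-- The centraliser of both involutions, inside the centraliser of the first. -/
def kG (g : G) : Subgroup (centralizer ({N.z} : Set G)) :=
  (centralizer ({g * N.z * g⁻¹} : Set G)).subgroupOf _

variable {N}

theorem mem_Qg {g y : G} : y ∈ Qg N g ↔ g⁻¹ * y * g ∈ N.Q := by
  constructor
  · rintro ⟨u, hu, rfl⟩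
    simpa [mul_assoc] using hu
  · exact fun h => ⟨g⁻¹ * y * g, h, by simp [mul_assoc]⟩

theorem isConj_conj (g : G) : IsConj N.z (g * N.z * g⁻¹) := isConj_iff.2 ⟨g, rfl⟩

namespace Out

variable {g : G} (O : Out N g)
include O

theorem symm : Out N g⁻¹ := by
  refine ⟨O.weak, ?_, fun h => O.notMem ?_⟩
  · have := congrArg (fun w => g⁻¹ * w * g) O.comm
    simp only [inv_inv]
    calc g⁻¹ * N.z * g * N.z = g⁻¹ * (N.z * (g * N.z * g⁻¹)) * g := by group
      _ = g⁻¹ * (g * N.z * g⁻¹ * N.z) * g := by rw [O.comm]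
      _ = N.z * (g⁻¹ * N.z * g) := by group
  · have e := O.weak g⁻¹ h
    rw [inv_inv] at e
    have e' : g * N.z * g⁻¹ = N.z := by
      conv_lhs => rw [← e]
      group
    rw [e']
    exact N.z_mem

theorem only_conj {y : G} (hy : y ∈ Qg N g) (hc : IsConj N.z y) : y = g * N.z * g⁻¹ := by
  obtain ⟨k, rfl⟩ := isConj_iff.1 hc
  have e := O.weak (g⁻¹ * k) (by
    have := mem_Qg.1 hy
    convert this using 1
    group)
  calc k * N.z * k⁻¹ = g * (g⁻¹ * k * N.z * (g⁻¹ * k)⁻¹) * g⁻¹ := by group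
    _ = g * N.z * g⁻¹ := by rw [e]

theorem z_notMem : N.z ∉ Qg N g := fun h => O.notMem (by
  rw [← O.only_conj h (IsConj.refl _)]; exact N.z_mem)

theorem comm_of_mem {y : G} (hy : y ∈ Qg N g) : y * (g * N.z * g⁻¹) = g * N.z * g⁻¹ * y := by
  have h := N.z_comm (mem_Qg.1 hy)
  calc y * (g * N.z * g⁻¹) = g * (g⁻¹ * y * g * N.z) * g⁻¹ := by group
    _ = g * (N.z * (g⁻¹ * y * g)) * g⁻¹ := by rw [h]
    _ = g * N.z * g⁻¹ * y := by group

theorem d_le_s : dG N g ≤ sG N g := fun _ hy =>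
  ⟨hy.1, mem_centralizer_singleton_iff.2 (O.comm_of_mem hy.2)⟩

theorem not_conj_mul {d : G} (hd : d ∈ dG N g) (hd1 : d ≠ 1) : ¬ IsConj N.z (g * N.z * g⁻¹ * d) := fun h => by
  have hxQ : g * N.z * g⁻¹ ∈ Qg N g := mem_Qg.2 (by
    rw [show g⁻¹ * (g * N.z * g⁻¹) * g = N.z by group]; exact N.z_mem)
  exact hd1 (mul_eq_left.1 (O.only_conj (mul_mem hxQ hd.2) h))

omit O in
theorem conj_Qg {s y : G} (hs : s * (g * N.z * g⁻¹) = g * N.z * g⁻¹ * s) (hy : y ∈ Qg N g) :
    s * y * s⁻¹ ∈ Qg N g := by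
  have hs' : g⁻¹ * s * g ∈ centralizer ({N.z} : Set G) := mem_centralizer_singleton_iff.2 (by
    calc g⁻¹ * s * g * N.z = g⁻¹ * (s * (g * N.z * g⁻¹)) * g := by group
      _ = g⁻¹ * (g * N.z * g⁻¹ * s) * g := by rw [hs]
      _ = N.z * (g⁻¹ * s * g) := by group)
  refine mem_Qg.2 ?_
  have := N.conj_mem hs' ⟨_, mem_Qg.1 hy⟩
  convert this using 1
  group

theorem d_central {d s : G} (hd : d ∈ dG N g) (hs : s ∈ sG N g) : s * d = d * s := by
  have h := N.comm ⟨s, hs.1⟩ ⟨d, hd.1⟩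
  simp only at h
  split_ifs at h with hB
  · exact mul_inv_eq_iff_eq_mul.1 (mul_inv_eq_one.1 h)
  · exfalso
    refine O.z_notMem (h ▸ mul_mem ?_ (inv_mem hd.2))
    exact conj_Qg (mem_centralizer_singleton_iff.1 hs.2) hd.2

/-- The involution in the quotient. -/
def inv' : centralizer ({N.z} : Set G) := ⟨g * N.z * g⁻¹, mem_centralizer_singleton_iff.2 O.comm⟩

theorem a_sq [Finite G] : N.ρ O.inv' * N.ρ O.inv' = 1 ∧ N.ρ O.inv' ≠ 1 := by
  refine ⟨?_, fun h => O.notMem ((N.ρ_eq_one_iff _).1 h)⟩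
  rw [← map_mul, show O.inv' * O.inv' = 1 from Subtype.ext (by
    show g * N.z * g⁻¹ * (g * N.z * g⁻¹) = 1
    rw [show g * N.z * g⁻¹ * (g * N.z * g⁻¹) = g * (N.z * N.z) * g⁻¹ by group, N.zz]; group), map_one]

theorem k_le_centralizer : (kG N g).map N.ρ ≤ N.ρ.range ⊓ centralizer ({N.ρ O.inv'} : Set (Equiv.Perm V)) := by
  rintro _ ⟨k, hk, rfl⟩
  refine ⟨⟨k, rfl⟩, mem_centralizer_singleton_iff.2 ?_⟩
  rw [← map_mul, ← map_mul]
  congr 1
  exact Subtype.ext (mem_centralizer_singleton_iff.1 hk)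

theorem card_k [Finite G] : Nat.card ↥(kG N g) = Nat.card ↥(sG N g) * Nat.card ↥((kG N g).map N.ρ) := by
  have h := card_map_mul_inf N.ρ (kG N g)
  have e : (kG N g ⊓ N.ρ.ker) = (sG N g).subgroupOf (centralizer ({N.z} : Set G)) := by
    ext k
    simp only [mem_inf, MonoidHom.mem_ker, N.ρ_eq_one_iff, kG, sG, mem_subgroupOf]
    exact and_comm
  rw [e, Nat.card_congr (subgroupOfEquivOfLe (show sG N g ≤ centralizer ({N.z} : Set G) from
    fun y hy => N.F.le hy.1)).toEquiv] at h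
  rw [← h, mul_comm]

omit O in
theorem card_k_symm : Nat.card ↥(kG N g⁻¹) = Nat.card ↥(kG N g) := by
  refine Nat.card_congr
    { toFun := fun k => ⟨⟨g * ((k.1 : G)) * g⁻¹, ?_⟩, ?_⟩
      invFun := fun k => ⟨⟨g⁻¹ * ((k.1 : G)) * g, ?_⟩, ?_⟩
      left_inv := fun k => Subtype.ext (Subtype.ext (by simp [mul_assoc]))
      right_inv := fun k => Subtype.ext (Subtype.ext (by simp [mul_assoc])) }
  · have h := mem_centralizer_singleton_iff.1 k.2
    simp only [Subgroup.coe_subtype] at h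
    rw [inv_inv] at h
    rw [mem_centralizer_singleton_iff]
    calc g * (k.1 : G) * g⁻¹ * N.z = g * ((k.1 : G) * (g⁻¹ * N.z * g)) * g⁻¹ := by group
      _ = g * (g⁻¹ * N.z * g * (k.1 : G)) * g⁻¹ := by rw [← h]
      _ = N.z * (g * (k.1 : G) * g⁻¹) := by group
  · have h := mem_centralizer_singleton_iff.1 k.1.2
    show g * (k.1 : G) * g⁻¹ ∈ centralizer ({g * N.z * g⁻¹} : Set G)
    rw [mem_centralizer_singleton_iff]
    calc g * (k.1 : G) * g⁻¹ * (g * N.z * g⁻¹) = g * ((k.1 : G) * N.z) * g⁻¹ := by group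
      _ = g * (N.z * (k.1 : G)) * g⁻¹ := by rw [h]
      _ = _ := by group
  · have h := mem_centralizer_singleton_iff.1 k.2
    simp only [Subgroup.coe_subtype] at h
    rw [mem_centralizer_singleton_iff]
    calc g⁻¹ * (k.1 : G) * g * N.z = g⁻¹ * ((k.1 : G) * (g * N.z * g⁻¹)) * g := by group
      _ = g⁻¹ * (g * N.z * g⁻¹ * (k.1 : G)) * g := by rw [← h]
      _ = N.z * (g⁻¹ * (k.1 : G) * g) := by group
  · have h := mem_centralizer_singleton_iff.1 k.1.2
    show g⁻¹ * (k.1 : G) * g ∈ centralizer ({g⁻¹ * N.z * g⁻¹⁻¹} : Set G)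
    rw [mem_centralizer_singleton_iff, inv_inv]
    calc g⁻¹ * (k.1 : G) * g * (g⁻¹ * N.z * g) = g⁻¹ * ((k.1 : G) * N.z) * g := by group
      _ = g⁻¹ * (N.z * (k.1 : G)) * g := by rw [h]
      _ = _ := by group

/-- The image of the one centraliser in the quotient of the other: a normal two-subgroup. -/
theorem exists_image [Finite G] : ∃ M : Subgroup (Equiv.Perm V),
    M ≤ (kG N g⁻¹).map N.ρ ∧ (∀ k ∈ (kG N g⁻¹).map N.ρ, ∀ m ∈ M, k * m * k⁻¹ ∈ M) ∧
    Nat.card ↥M * Nat.card ↥(dG N g) = Nat.card ↥(sG N g) ∧ N.ρ O.symm.inv' ∈ M ∧ IsPGroup 2 ↥M ∧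
    ((∀ s ∈ sG N g, s * s = 1) → ∀ m ∈ M, m * m = 1) := by
  have hmem : ∀ s ∈ sG N g, g⁻¹ * s * g ∈ centralizer ({N.z} : Set G) := fun s hs =>
    mem_centralizer_singleton_iff.2 (by
      have h := mem_centralizer_singleton_iff.1 hs.2
      calc g⁻¹ * s * g * N.z = g⁻¹ * (s * (g * N.z * g⁻¹)) * g := by group
        _ = g⁻¹ * (g * N.z * g⁻¹ * s) * g := by rw [h]
        _ = N.z * (g⁻¹ * s * g) := by group)
  let χ : ↥(sG N g) →* centralizer ({N.z} : Set G) :=
    MonoidHom.mk' (fun s => ⟨g⁻¹ * s * g, hmem s s.2⟩) fun a b => Subtype.ext (by simp [mul_assoc])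
  have hχ : ∀ s, χ s ∈ kG N g⁻¹ := fun s => by
    show g⁻¹ * (s : G) * g ∈ centralizer ({g⁻¹ * N.z * g⁻¹⁻¹} : Set G)
    rw [mem_centralizer_singleton_iff, inv_inv]
    calc g⁻¹ * (s : G) * g * (g⁻¹ * N.z * g) = g⁻¹ * ((s : G) * N.z) * g := by group
      _ = g⁻¹ * (N.z * (s : G)) * g := by rw [N.z_comm s.2.1]
      _ = _ := by group
  refine ⟨(N.ρ.comp χ).range, ?_, ?_, ?_, ?_, ?_, ?_⟩
  · rintro _ ⟨s, rfl⟩
    exact ⟨χ s, hχ s, rfl⟩
  · rintro _ ⟨k, hk, rfl⟩ _ ⟨s, rfl⟩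
    have hk1 := mem_centralizer_singleton_iff.1 k.2
    have hk2 := mem_centralizer_singleton_iff.1 hk
    simp only [Subgroup.coe_subtype, inv_inv] at hk2
    have a1 : g * (k : G) * g⁻¹ ∈ centralizer ({N.z} : Set G) := mem_centralizer_singleton_iff.2 (by
      calc g * (k : G) * g⁻¹ * N.z = g * ((k : G) * (g⁻¹ * N.z * g)) * g⁻¹ := by group
        _ = g * (g⁻¹ * N.z * g * (k : G)) * g⁻¹ := by rw [← hk2]
        _ = N.z * (g * (k : G) * g⁻¹) := by group)
    have a2 : g * (k : G) * g⁻¹ * (g * N.z * g⁻¹) = g * N.z * g⁻¹ * (g * (k : G) * g⁻¹) := by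
      calc g * (k : G) * g⁻¹ * (g * N.z * g⁻¹) = g * ((k : G) * N.z) * g⁻¹ := by group
        _ = g * (N.z * (k : G)) * g⁻¹ := by rw [hk1]
        _ = _ := by group
    have hs : g * (k : G) * g⁻¹ * s * (g * (k : G) * g⁻¹)⁻¹ ∈ sG N g := by
      refine ⟨N.conj_mem a1 ⟨s, s.2.1⟩, mem_centralizer_singleton_iff.2 ?_⟩
      exact ((show Commute (g * (k : G) * g⁻¹) (g * N.z * g⁻¹) from a2).mul_left
        (show Commute (s : G) (g * N.z * g⁻¹) from mem_centralizer_singleton_iff.1 s.2.2)).mul_left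
        (show Commute (g * (k : G) * g⁻¹) (g * N.z * g⁻¹) from a2).inv_left
    refine ⟨⟨_, hs⟩, ?_⟩
    rw [MonoidHom.comp_apply, MonoidHom.comp_apply, ← map_inv, ← map_mul, ← map_mul]
    congr 1
    exact Subtype.ext (by simp [χ, mul_assoc])
  · have h := Subgroup.card_eq_card_quotient_mul_card_subgroup (N.ρ.comp χ).ker
    have e : (N.ρ.comp χ).ker = (dG N g).subgroupOf (sG N g) := by
      ext s
      rw [MonoidHom.mem_ker, MonoidHom.comp_apply, N.ρ_eq_one_iff, mem_subgroupOf]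
      exact ⟨fun h => ⟨s.2.1, mem_Qg.2 h⟩, fun h => mem_Qg.1 h.2⟩
    rw [Nat.card_congr (QuotientGroup.quotientKerEquivRange (N.ρ.comp χ)).toEquiv, e,
      Nat.card_congr (subgroupOfEquivOfLe O.d_le_s).toEquiv] at h
    exact h.symm
  · refine ⟨⟨N.z, N.z_mem, mem_centralizer_singleton_iff.2 O.comm.symm⟩, ?_⟩
    rw [MonoidHom.comp_apply]
    congr 1
    exact Subtype.ext (by simp [χ, inv'])
  · have hQ : IsPGroup 2 ↥(sG N g) := (IsPGroup.of_card (G := ↥N.Q) (p := 2) (n := 9) (by rw [N.card]; rfl)).to_le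
      inf_le_left
    exact hQ.of_surjective (N.ρ.comp χ).rangeRestrict (MonoidHom.rangeRestrict_surjective _)
  · rintro h _ ⟨s, rfl⟩
    rw [← map_mul, show s * s = 1 from Subtype.ext (h s s.2), map_one]

end Out

end CfsgLib.ThType.Fusion
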