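import Cfsg.Agent.Lib.ThType.Fusion.Coset
import Cfsg.Agent.Lib.Invol.ZStarFinal
import Cfsg.Agent.Lib.ExtraNine.Excl
import Cfsg.Agent.Lib.Cores.Basic

/-!
# The central involution is not weakly closed in the extraspecial subgroup

The three possible actions of an involution of the quotient, with what is used of their centralisers there.
-/

set_option autoImplicit false
set_option linter.unusedSectionVars false

namespace CfsgLib.ThType.Fusion

open Subgroup CfsgLib.ExtraNine CfsgLib.LargeExtra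

variable {V : Type*} [AddCommGroup V]

/-- The centraliser of an isometry in a group of isometries. -/
abbrev cH (H : Subgroup (Equiv.Perm V)) (a : Equiv.Perm V) : Subgroup (Equiv.Perm V) :=
  H ⊓ centralizer ({a} : Set (Equiv.Perm V))

/-- A subgroup normalised by the members of another one and contained in it. -/
def NormalIn (M L : Subgroup (Equiv.Perm V)) : Prop := M ≤ L ∧ ∀ k ∈ L, ∀ m ∈ M, k * m * k⁻¹ ∈ M

/-- Fixed space equal to a totally singular space of commutators. -/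
structure TypeA (S : QV V) (H : Subgroup (Equiv.Perm V)) (a : Equiv.Perm V) : Prop where
  fix : Nat.card {v : V // a v = v} = 16
  image : FixImage a
  plain : ¬ Twisted S a
  cent : Nat.card ↥(cH H a) = 480
  small : ∀ L ≤ cH H a, 240 ≤ Nat.card ↥L → ∀ M, NormalIn M L → IsPGroup 2 ↥M → Nat.card ↥M < 8

/-- Fixed space equal to the commutators, twisted. -/
structure TypeC (S : QV V) (H : Subgroup (Equiv.Perm V)) (a : Equiv.Perm V) : Prop where
  fix : Nat.card {v : V // a v = v} = 16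
  image : FixImage a
  twisted : Twisted S a
  cent : Nat.card ↥(cH H a) = 192
  elem : ∀ M, NormalIn M (cH H a) → (∀ m ∈ M, m * m = 1) → Nat.card ↥M ≠ 16
  two : ∀ M, NormalIn M (cH H a) → IsPGroup 2 ↥M → Nat.card ↥M ≠ 64

/-- Fixed space of codimension two. -/
structure TypeB (S : QV V) (H : Subgroup (Equiv.Perm V)) (a : Equiv.Perm V) : Prop where
  fix : Nat.card {v : V // a v = v} = 64
  twisted : Twisted S a
  rad : RadSmall S a
  zero : ZeroBound S a 40
  cent : Nat.card ↥(cH H a) = 480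
  small : ∀ L ≤ cH H a, ∀ M, NormalIn M L → IsPGroup 2 ↥M → 32 ≤ Nat.card ↥M → Nat.card ↥L ≤ 32

/-- Every involution has one of the three types. -/
def Classes (S : QV V) (H : Subgroup (Equiv.Perm V)) : Prop :=
  ∀ a ∈ H, a * a = 1 → a ≠ 1 → TypeA S H a ∨ TypeC S H a ∨ TypeB S H a

theorem card_bool_fix [Finite V] (S : QV V) (a : Equiv.Perm V) (n : ℕ)
    (h : Nat.card {v : V // a v = v} = n) : ZeroBound S a n := fun _ _ => h ▸
  Nat.card_le_card_of_injective (fun v => ⟨v.1, v.2.1⟩) fun _ _ e =>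
    Subtype.ext (congrArg (fun w : {v : V // a v = v} => w.1) e)

variable {G : Type*} [Group G] [Finite G] [Finite V] {N : Nine G V}

theorem card_d_symm (g : G) : Nat.card ↥(dG N g⁻¹) = Nat.card ↥(dG N g) := by
  refine Nat.card_congr
    { toFun := fun d => ⟨g * d * g⁻¹, ?_⟩
      invFun := fun d => ⟨g⁻¹ * d * g, ?_⟩
      left_inv := fun d => Subtype.ext (by simp [mul_assoc])
      right_inv := fun d => Subtype.ext (by simp [mul_assoc]) }
  · refine ⟨by simpa using mem_Qg.1 d.2.2, mem_Qg.2 ?_⟩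
    rw [show g⁻¹ * (g * (d : G) * g⁻¹) * g = d by group]
    exact d.2.1
  · refine ⟨mem_Qg.1 d.2.2, mem_Qg.2 ?_⟩
    rw [inv_inv, show g * (g⁻¹ * (d : G) * g) * g⁻¹ = d by group]
    exact d.2.1

namespace Out

variable {g : G} (O : Out N g)
include O

theorem no_out (hcl : Classes N.S N.ρ.range) : False := by
  -- the centraliser of the image, seen from the other side
  have hL : ∀ {h : G} (P : Out N h), (kG N h).map N.ρ ≤ cH N.ρ.range (N.ρ P.inv') := fun P => P.k_le_centralizer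
  have hM : ∀ {h : G} (P : Out N h), ∃ M, NormalIn M ((kG N h).map N.ρ) ∧ IsPGroup 2 ↥M ∧
      Nat.card ↥M * Nat.card ↥(dG N h) = Nat.card ↥(sG N h⁻¹) ∧
      ((∀ s ∈ sG N h⁻¹, s * s = 1) → ∀ m ∈ M, m * m = 1) := by
    intro h P
    obtain ⟨M, h1, h2, h3, -, h5, h6⟩ := P.symm.exists_image
    rw [inv_inv] at h1 h2
    rw [card_d_symm] at h3
    exact ⟨M, ⟨h1, h2⟩, h5, h3, h6⟩
  have ty : ∀ {h : G} (P : Out N h), TypeA N.S N.ρ.range (N.ρ P.inv') ∨ TypeC N.S N.ρ.range (N.ρ P.inv') ∨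
      TypeB N.S N.ρ.range (N.ρ P.inv') := fun P => hcl _ ⟨_, rfl⟩ P.a_sq.1 P.a_sq.2
  -- the sizes on one side
  have sA : ∀ {h : G} (P : Out N h), TypeA N.S N.ρ.range (N.ρ P.inv') →
      Nat.card ↥(sG N h) = 32 ∧ Nat.card ↥(dG N h) ≤ 4 := fun P T =>
    ⟨by rw [P.card_s_plain T.image T.plain, T.fix], P.d_le_four T.image⟩
  have sC : ∀ {h : G} (P : Out N h), TypeC N.S N.ρ.range (N.ρ P.inv') →
      Nat.card ↥(sG N h) = 16 ∧ Nat.card ↥(dG N h) = 1 := fun P T =>
    ⟨by rw [P.card_s_twisted T.twisted, T.fix], P.d_trivial T.image T.twisted⟩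
  have sB : ∀ {h : G} (P : Out N h), TypeB N.S N.ρ.range (N.ρ P.inv') →
      Nat.card ↥(sG N h) = 64 ∧ Nat.card ↥(dG N h) ≤ 2 := fun P T =>
    ⟨by rw [P.card_s_twisted T.twisted, T.fix], P.d_le_two T.twisted T.rad⟩
  have noA : ∀ {h : G} (P : Out N h), ¬ TypeA N.S N.ρ.range (N.ρ P.inv') := by
    intro h P T
    have hb := P.orbit_bound (card_bool_fix N.S _ 16 T.fix)
    rw [show Nat.card ↥(N.ρ.range ⊓ centralizer ({N.ρ P.inv'} : Set (Equiv.Perm V)) : Subgroup (Equiv.Perm V))
      = 480 from T.cent, P.card_k, (sA P T).1] at hb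
    obtain ⟨M, hMn, hM2, hMc, -⟩ := hM P
    have hlt := T.small _ (hL P) (by omega) M hMn hM2
    rcases ty P.symm with T' | T' | T'
    · obtain ⟨e, hd⟩ := sA _ T'
      rw [card_d_symm] at hd
      rw [e] at hMc
      nlinarith
    · obtain ⟨e, hd⟩ := sC _ T'
      rw [card_d_symm] at hd
      rw [e, hd, mul_one] at hMc
      omega
    · obtain ⟨e, hd⟩ := sB _ T'
      rw [card_d_symm] at hd
      rw [e] at hMc
      nlinarith
  have noC : ∀ {h : G} (P : Out N h), ¬ TypeC N.S N.ρ.range (N.ρ P.inv') := by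
    intro h P T
    obtain ⟨e0, hd0⟩ := sC P T
    have hb := P.orbit_bound (card_bool_fix N.S _ 16 T.fix)
    rw [show Nat.card ↥(N.ρ.range ⊓ centralizer ({N.ρ P.inv'} : Set (Equiv.Perm V)) : Subgroup (Equiv.Perm V))
      = 192 from T.cent, P.card_k, e0] at hb
    have heq : (kG N h).map N.ρ = cH N.ρ.range (N.ρ P.inv') :=
      eq_of_le_of_card_ge (hL P) (by rw [T.cent]; omega)
    obtain ⟨M, hMn, hM2, hMc, hMe⟩ := hM P
    rw [hd0, mul_one] at hMc
    rw [heq] at hMn
    rcases ty P.symm with T' | T' | T'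
    · exact noA _ T'
    · exact T.elem M hMn (hMe (P.symm.s_elem T'.image)) (hMc.trans (sC _ T').1)
    · exact T.two M hMn hM2 (hMc.trans (sB _ T').1)
  rcases ty O with T | T | T
  · exact noA O T
  · exact noC O T
  · rcases ty O.symm with T' | T' | T'
    · exact noA _ T'
    · exact noC _ T'
    · have hb := O.orbit_bound T.zero
      rw [show Nat.card ↥(N.ρ.range ⊓ centralizer ({N.ρ O.inv'} : Set (Equiv.Perm V)) : Subgroup (Equiv.Perm V))
        = 480 from T.cent, O.card_k, (sB O T).1] at hb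
      obtain ⟨M, hMn, hM2, hMc, -⟩ := hM O
      obtain ⟨e, hd⟩ := sB _ T'
      rw [card_d_symm] at hd
      rw [e] at hMc
      have := T.small _ (hL O) M hMn hM2 (by nlinarith)
      omega

end Out

/-- An odd element inverted by an involution is carried away by a square root. -/
theorem exists_conj_of_core {z g : G} (hz : orderOf z = 2)
    (h : z * g * z⁻¹ * g⁻¹ ∈ Cfsg.oddCore G) : g ∈ centralizer ({z} : Set G) ⊔ Cfsg.oddCore G := by
  have hzz : z * z = 1 := by rw [← sq, ← hz, pow_orderOf_eq_one]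
  set o := z * g * z⁻¹ * g⁻¹ with ho
  have e : g * z * g⁻¹ = z * o := by
    have hzi : z⁻¹ = z := inv_eq_of_mul_eq_one_right hzz
    rw [ho, hzi]
    calc g * z * g⁻¹ = z * z * g * z * g⁻¹ := by rw [hzz, one_mul]
      _ = _ := by group
  have hodd : Odd (orderOf o) := by
    have h1 : orderOf (⟨o, h⟩ : ↥(Cfsg.oddCore G)) ∣ Nat.card ↥(Cfsg.oddCore G) := orderOf_dvd_natCard _
    rw [Subgroup.orderOf_mk] at h1
    exact (CfsgLib.Cores.odd_card_oddCore : Odd (Nat.card ↥(Cfsg.oddCore G))).of_dvd_nat h1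
  have hinv : z * o * z⁻¹ = o⁻¹ := by
    have h2 : g * z * g⁻¹ * (g * z * g⁻¹) = 1 := by
      rw [show g * z * g⁻¹ * (g * z * g⁻¹) = g * (z * z) * g⁻¹ by group, hzz]; group
    rw [e] at h2
    rw [inv_eq_of_mul_eq_one_right hzz]
    refine eq_inv_of_mul_eq_one_left ?_
    rw [← h2]; group
  obtain ⟨k, hk⟩ := hodd
  set w := o ^ (k + 1) with hw
  have hw2 : w * w = o := by
    rw [hw, ← pow_add, show k + 1 + (k + 1) = orderOf o + 1 by omega, pow_succ, pow_orderOf_eq_one, one_mul]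
  have hzw : z * w * z⁻¹ = w⁻¹ := by
    rw [hw, ← conj_pow, hinv, inv_pow]
  have e2 : w⁻¹ * z * w = z * o := by
    calc w⁻¹ * z * w = z * w * z⁻¹ * z * w := by rw [hzw]
      _ = z * (w * w) := by group
      _ = z * o := by rw [hw2]
  have hc : w * g ∈ centralizer ({z} : Set G) := mem_centralizer_singleton_iff.2 (by
    calc w * g * z = w * (g * z * g⁻¹) * g := by group
      _ = w * (w⁻¹ * z * w) * g := by rw [e, e2]
      _ = z * (w * g) := by group)
  have hwO : w⁻¹ ∈ Cfsg.oddCore G := inv_mem (hw ▸ pow_mem h _)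
  have := mul_mem (mem_sup_right hwO : w⁻¹ ∈ centralizer ({z} : Set G) ⊔ Cfsg.oddCore G) (mem_sup_left hc)
  rwa [inv_mul_cancel_left] at this

/-- Unless the centraliser covers the group modulo the odd core, another conjugate lies in the extraspecial group. -/
theorem exists_inQ (hcl : Classes N.S N.ρ.range)
    (hG : centralizer ({N.z} : Set G) ⊔ Cfsg.oddCore G ≠ ⊤) :
    ∃ g : G, g * N.z * g⁻¹ ∈ N.Q ∧ g * N.z * g⁻¹ ≠ N.z := by
  by_contra hno
  have hw : Weak N := fun h hh => by_contra fun hne => hno ⟨h, hh, hne⟩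
  refine hG ((eq_top_iff' _).2 fun g => exists_conj_of_core N.F.ord
    (CfsgLib.Invol.zstar ⟨N.F.ord, fun h hc => ?_⟩ g))
  by_contra hne
  by_cases hq : h * N.z * h⁻¹ ∈ N.Q
  · exact hne (hw h hq)
  · exact (Out.mk hw hc.symm.eq hq).no_out hcl

/-- No stabiliser with a normal elementary group of order eight: no other conjugate in the extraspecial group. -/
theorem no_inQ [Fintype V] (hst : ∀ v : V, v ≠ 0 → N.S.q v = 0 → ∀ M : Subgroup (Equiv.Perm V), M ≤ N.ρ.range →
      (∀ m ∈ M, m * m = 1) → (∀ m ∈ M, m v = v) →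
      (∀ k ∈ N.ρ.range, k v = v → ∀ m ∈ M, k * m * k⁻¹ ∈ M) → Nat.card ↥M < 8)
    {g : G} (hx : g * N.z * g⁻¹ ∈ N.Q) : g * N.z * g⁻¹ = N.z := by
  by_contra hne
  obtain ⟨d, -⟩ := N.exists_pairData hx hne
  have h1 := hst _ d.v_ne (d.singular _ d.v_mem) d.Bb d.le d.invol d.fixed (fun k hk hkv => (d.stab k hk hkv).2)
  have h2 := d.card_W_le
  have h3 := d.card_Bb
  nlinarith

end CfsgLib.ThType.Fusion
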