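import Cfsg.Agent.Lib.ThType.Fusion.Basic

/-!
# The coset of an outside conjugate in the extraspecial subgroup

Orders of the centraliser in the extraspecial subgroup, bounds on the intersection, and on the index of the
stabiliser, from the action of the conjugate on the quadratic space.
-/

set_option autoImplicit false
set_option linter.unusedSectionVars false

namespace CfsgLib.ThType.Fusion

open Subgroup CfsgLib.ExtraNine CfsgLib.LargeExtra

variable {G : Type*} [Group G] [Finite G] {V : Type*} [AddCommGroup V] {N : Nine G V}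

/-- The fixed vectors are commutators with the isometry. -/
def FixImage (a : Equiv.Perm V) : Prop := ∀ v, a v = v → ∃ u, a u + u = v

/-- Some vector is not perpendicular to its image. -/
def Twisted (S : QV V) (a : Equiv.Perm V) : Prop := ∃ u, S.B u (a u) = 1

/-- The functionals on the fixed vectors that a lift can give. -/
def LFun (S : QV V) (a : Equiv.Perm V) (l : V → ZMod 2) : Prop :=
  (∀ v w, a v = v → a w = w → l (v + w) = l v + l w) ∧ ∀ u, l (a u + u) = S.B u (a u)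

/-- The radical of the kernel of such a functional has at most two classes modulo the commutators. -/
def RadSmall (S : QV V) (a : Equiv.Perm V) : Prop :=
  ∀ l, LFun S a l → ∀ d e, a d = d → a e = e → l d = 0 → l e = 0 →
    (∀ w, a w = w → l w = 0 → S.B d w = 0 ∧ S.B e w = 0) →
    (¬ ∃ u, a u + u = d) → (¬ ∃ u, a u + u = e) → ∃ u, a u + u = d + e

/-- The number of fixed vectors where the form agrees with such a functional is bounded. -/
def ZeroBound (S : QV V) (a : Equiv.Perm V) (m : ℕ) : Prop :=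
  ∀ l, LFun S a l → Nat.card {v : V // a v = v ∧ S.q v = l v} ≤ m

open scoped _root_.Classical in
/-- The functional of a lift. -/
noncomputable def lf (N : Nine G V) (g : G) (v : V) : ZMod 2 :=
  if ∃ s : G, ∃ hs : s ∈ sG N g, N.π ⟨s, hs.1⟩ = v then 0 else 1

namespace Out

variable {g : G} (O : Out N g)
include O

local notation "xg" => g * N.z * g⁻¹

theorem x_sq : xg * xg = 1 := by
  rw [show g * N.z * g⁻¹ * (g * N.z * g⁻¹) = g * (N.z * N.z) * g⁻¹ by group, N.zz]; group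

theorem x_inv : (xg)⁻¹ = xg := inv_eq_of_mul_eq_one_right O.x_sq

theorem x_mem : xg ∈ centralizer ({N.z} : Set G) := mem_centralizer_singleton_iff.2 O.comm

theorem x_conj_mem {u : G} (hu : u ∈ N.Q) : xg * u * (xg)⁻¹ ∈ N.Q := N.conj_mem O.x_mem ⟨u, hu⟩

theorem act (q : ↥N.Q) : N.ρ O.inv' (N.π q) = N.π ⟨xg * q * (xg)⁻¹, O.x_conj_mem q.2⟩ := N.ρ_π O.inv' q

theorem a_invol (v : V) : N.ρ O.inv' (N.ρ O.inv' v) = v := by
  rw [← Equiv.Perm.mul_apply, O.a_sq.1]; rfl

theorem a_add (v w : V) : N.ρ O.inv' (v + w) = N.ρ O.inv' v + N.ρ O.inv' w := (N.ρ_mem O.inv').1 v w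

theorem fix_comm (u : V) : N.ρ O.inv' (N.ρ O.inv' u + u) = N.ρ O.inv' u + u := by
  rw [O.a_add, O.a_invol, add_comm]

/-- An element centralising the image of the conjugate is moved by at most the central involution. -/
theorem p_cases {q : ↥N.Q} (h : N.ρ O.inv' (N.π q) = N.π q) :
    xg * q * (xg)⁻¹ = q ∨ xg * q * (xg)⁻¹ = q * N.z :=
  N.π_eq (h.symm.trans (O.act q))

/-- The commutator of an element of the extraspecial subgroup with the conjugate. -/
def comm' (u : ↥N.Q) : ↥N.Q :=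
  ⟨u * (xg * (u : G)⁻¹ * (xg)⁻¹), mul_mem u.2 (O.x_conj_mem (inv_mem u.2))⟩

theorem comm'_spec (u : ↥N.Q) : (u : G) * xg * (u : G)⁻¹ = (O.comm' u : G) * xg := by
  show _ = (u : G) * (xg * (u : G)⁻¹ * (xg)⁻¹) * xg
  group

theorem comm'_inv (u : ↥N.Q) : xg * (O.comm' u : G) * (xg)⁻¹ = (O.comm' u : G)⁻¹ := by
  show xg * ((u : G) * (xg * (u : G)⁻¹ * (xg)⁻¹)) * (xg)⁻¹ = ((u : G) * (xg * (u : G)⁻¹ * (xg)⁻¹))⁻¹
  calc xg * ((u : G) * (xg * (u : G)⁻¹ * (xg)⁻¹)) * (xg)⁻¹
      = xg * (u : G) * xg * (u : G)⁻¹ * (xg * xg)⁻¹ := by group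
    _ = xg * (u : G) * (xg)⁻¹ * (u : G)⁻¹ := by rw [O.x_sq, inv_one, mul_one, O.x_inv]
    _ = _ := by group

theorem π_comm' (u : ↥N.Q) : N.π (O.comm' u) = N.ρ O.inv' (N.π u) + N.π u := by
  rw [show O.comm' u = u * ⟨xg * ((u⁻¹ : ↥N.Q) : G) * (xg)⁻¹, O.x_conj_mem (u⁻¹).2⟩ from rfl,
    N.π_mul, ← O.act, N.π_inv, add_comm]

theorem comm'_sq (u : ↥N.Q) : (O.comm' u : G) * O.comm' u =
    if N.S.B (N.π u) (N.ρ O.inv' (N.π u)) = 0 then 1 else N.z := by
  rw [N.sq, O.π_comm', N.S.q_add, (N.ρ_mem O.inv').2, CharTwo.add_self_eq_zero, zero_add, N.S.B_comm]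

/-- In the twisted case: an element centralising the image and not the conjugate. -/
theorem exists_moved (ht : Twisted N.S (N.ρ O.inv')) : ∃ p : ↥N.Q,
    N.ρ O.inv' (N.π p) = N.π p ∧ xg * p * (xg)⁻¹ = p * N.z ∧ (p : G) * p = N.z ∧
      (O.comm' p : G) = N.z := by
  obtain ⟨v, hv⟩ := ht
  obtain ⟨u, rfl⟩ := N.surj v
  set p := O.comm' u with hp
  have h2 : (p : G) * p = N.z := by rw [hp, O.comm'_sq, if_neg (by rw [hv]; decide)]
  have hinv : (p : G)⁻¹ = p * N.z :=
    inv_eq_of_mul_eq_one_right (by rw [← mul_assoc, h2, N.zz])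
  have hmove : xg * p * (xg)⁻¹ = p * N.z := by rw [O.comm'_inv, hinv]
  refine ⟨p, ?_, hmove, h2, ?_⟩
  · rw [hp, O.π_comm', O.fix_comm]
  · show (p : G) * (xg * (p : G)⁻¹ * (xg)⁻¹) = N.z
    rw [show xg * (p : G)⁻¹ * (xg)⁻¹ = (xg * p * (xg)⁻¹)⁻¹ by group, hmove, ← hinv, inv_inv, h2]

/-- The elements centralising the image of the conjugate. -/
def pG : Subgroup ↥N.Q where
  carrier := {q | N.ρ O.inv' (N.π q) = N.π q}
  one_mem' := by
    show N.ρ O.inv' (N.π 1) = N.π 1
    rw [N.π_one]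
    have h := O.a_add 0 0
    rw [add_zero] at h
    exact left_eq_add.1 h
  mul_mem' := fun {p q} hp hq => by
    show N.ρ O.inv' (N.π (p * q)) = N.π (p * q)
    rw [N.π_mul, O.a_add, hp, hq]
  inv_mem' := fun {p} hp => by
    show N.ρ O.inv' (N.π p⁻¹) = N.π p⁻¹
    rw [N.π_inv]; exact hp

theorem s_le_p {q : G} (hq : q ∈ sG N g) : (⟨q, hq.1⟩ : ↥N.Q) ∈ O.pG := by
  show N.ρ O.inv' (N.π _) = _
  rw [O.act]
  congr 1
  refine Subtype.ext ?_
  show xg * q * (xg)⁻¹ = q
  rw [← mem_centralizer_singleton_iff.1 hq.2, mul_inv_cancel_right]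

theorem card_p : Nat.card ↥O.pG = 2 * Nat.card {v : V // N.ρ O.inv' v = v} := by
  classical
  let r : V → ↥N.Q := Function.surjInv N.surj
  have hr : ∀ v, N.π (r v) = v := Function.surjInv_eq N.surj
  let Ψ : Bool × {v : V // N.ρ O.inv' v = v} → ↥O.pG := fun x =>
    if x.1 then ⟨r x.2 * ⟨N.z, N.z_mem⟩, by
      show N.ρ O.inv' (N.π _) = N.π _
      rw [N.π_mul, N.π_z, add_zero, hr]; exact x.2.2⟩
    else ⟨r x.2, by
      show N.ρ O.inv' (N.π _) = N.π _
      rw [hr]; exact x.2.2⟩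
  have hΨπ : ∀ x, N.π (Ψ x) = x.2 := by
    rintro ⟨b, v⟩
    cases b <;> simp [Ψ, N.π_mul, N.π_z, hr]
  have hb : Function.Bijective Ψ := by
    constructor
    · rintro ⟨b, v⟩ ⟨b', v'⟩ h
      obtain rfl : v = v' := by
        have e := hΨπ (b, v)
        rw [h, hΨπ] at e
        exact Subtype.ext e.symm
      have h' : ((Ψ (b, v) : ↥N.Q) : G) = (Ψ (b', v) : ↥N.Q) := by rw [h]
      cases b <;> cases b' <;> simp [Ψ] at h' ⊢
      · exact N.z_ne h'
      · exact N.z_ne h'
    · intro q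
      rcases N.π_eq (a := r (N.π q)) (b := (q : ↥N.Q)) (hr _) with h | h
      · exact ⟨(false, ⟨N.π q, q.2⟩), Subtype.ext (Subtype.ext h.symm)⟩
      · exact ⟨(true, ⟨N.π q, q.2⟩), Subtype.ext (Subtype.ext h.symm)⟩
  rw [← Nat.card_congr (Equiv.ofBijective Ψ hb), Nat.card_prod, Nat.card_eq_fintype_card, Fintype.card_bool]

/-- The order of the centraliser in the twisted case. -/
theorem card_s_twisted (ht : Twisted N.S (N.ρ O.inv')) :
    Nat.card ↥(sG N g) = Nat.card {v : V // N.ρ O.inv' v = v} := by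
  obtain ⟨p, hp, hmove, -, -⟩ := O.exists_moved ht
  let f : Bool × ↥(sG N g) → ↥O.pG := fun x =>
    if x.1 then ⟨p * ⟨x.2, x.2.2.1⟩, O.pG.mul_mem hp (O.s_le_p x.2.2)⟩
    else ⟨⟨x.2, x.2.2.1⟩, O.s_le_p x.2.2⟩
  have hns : (p : G) ∉ sG N g := fun h => N.z_ne (by
    have e := hmove
    rw [show xg * p * (xg)⁻¹ = p by rw [← mem_centralizer_singleton_iff.1 h.2, mul_inv_cancel_right],
      left_eq_mul] at e
    exact e)
  have hb : Function.Bijective f := by
    constructor
    · rintro ⟨b, s⟩ ⟨b', s'⟩ h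
      have h' : ((f (b, s) : ↥N.Q) : G) = (f (b', s') : ↥N.Q) := by rw [h]
      cases b <;> cases b' <;> simp [f] at h' ⊢
      · exact h'
      · exact hns ((eq_mul_inv_iff_mul_eq.2 h'.symm) ▸ mul_mem s.2 (inv_mem s'.2))
      · exact hns ((eq_mul_inv_iff_mul_eq.2 h') ▸ mul_mem s'.2 (inv_mem s.2))
      · exact h'
    · rintro ⟨q, hq⟩
      rcases O.p_cases hq with h | h
      · exact ⟨(false, ⟨q, q.2, mem_centralizer_singleton_iff.2 (mul_inv_eq_iff_eq_mul.1 h).symm⟩),
          Subtype.ext (Subtype.ext rfl)⟩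
      · have h1 : xg * ((p : G)⁻¹ * q) * (xg)⁻¹ = (p : G)⁻¹ * q := by
          rw [show xg * ((p : G)⁻¹ * q) * (xg)⁻¹ = (xg * p * (xg)⁻¹)⁻¹ * (xg * q * (xg)⁻¹) by group, h, hmove, mul_inv_rev]
          calc N.z⁻¹ * (p : G)⁻¹ * ((q : G) * N.z) = N.z⁻¹ * ((p : G)⁻¹ * q * N.z) := by group
            _ = N.z⁻¹ * (N.z * ((p : G)⁻¹ * q)) := by rw [N.z_comm (N.Q.mul_mem (N.Q.inv_mem p.2) q.2)]
            _ = _ := by group
        refine ⟨(true, ⟨(p : G)⁻¹ * q, N.Q.mul_mem (N.Q.inv_mem p.2) q.2,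
          mem_centralizer_singleton_iff.2 (mul_inv_eq_iff_eq_mul.1 h1).symm⟩), ?_⟩
        exact Subtype.ext (Subtype.ext (show (p : G) * ((p : G)⁻¹ * q) = q by group))
  have h := Nat.card_congr (Equiv.ofBijective f hb)
  rw [Nat.card_prod, Nat.card_eq_fintype_card (α := Bool), Fintype.card_bool, O.card_p] at h
  omega

/-- The order of the centraliser in the untwisted case. -/
theorem card_s_plain (hfi : FixImage (N.ρ O.inv')) (ht : ¬ Twisted N.S (N.ρ O.inv')) :
    Nat.card ↥(sG N g) = 2 * Nat.card {v : V // N.ρ O.inv' v = v} := by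
  have hs : ∀ q : ↥N.Q, q ∈ O.pG → (q : G) ∈ sG N g := by
    intro q hq
    obtain ⟨v, hv⟩ := hfi _ hq
    obtain ⟨u, rfl⟩ := N.surj v
    have h1 : (O.comm' u : G) * O.comm' u = 1 := by
      rw [O.comm'_sq, if_pos]
      rcases zmod_two_cases (N.S.B (N.π u) (N.ρ O.inv' (N.π u))) with h | h
      exacts [h, absurd ⟨_, h⟩ ht]
    have h2 : xg * (O.comm' u : G) * (xg)⁻¹ = O.comm' u := by rw [O.comm'_inv, inv_eq_of_mul_eq_one_right h1]
    refine ⟨q.2, mem_centralizer_singleton_iff.2 (mul_inv_eq_iff_eq_mul.1 ?_).symm⟩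
    rcases N.π_eq (a := O.comm' u) (b := q) (by rw [O.π_comm', hv]) with e | e <;> rw [e]
    · exact h2
    · rw [show xg * ((O.comm' u : G) * N.z) * (xg)⁻¹
          = xg * (O.comm' u : G) * (xg)⁻¹ * (xg * N.z * (xg)⁻¹) by group, h2, O.comm, mul_inv_cancel_right]
  rw [← O.card_p]
  exact (Nat.card_congr
    { toFun := fun q => ⟨⟨q, q.2.1⟩, O.s_le_p q.2⟩
      invFun := fun q => ⟨q.1, hs _ q.2⟩
      left_inv := fun q => rfl
      right_inv := fun q => rfl })

/-- The centraliser is elementary when the fixed vectors are commutators. -/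
theorem s_elem (hfi : FixImage (N.ρ O.inv')) : ∀ s ∈ sG N g, s * s = 1 := by
  intro s hs
  obtain ⟨v, hv⟩ := hfi _ (O.s_le_p hs)
  obtain ⟨u, rfl⟩ := N.surj v
  have hsx : xg * s * (xg)⁻¹ = s := by rw [← mem_centralizer_singleton_iff.1 hs.2, mul_inv_cancel_right]
  have hT : (O.comm' u : G) * O.comm' u = 1 := by
    have e : xg * (O.comm' u : G) * (xg)⁻¹ = O.comm' u := by
      rcases N.π_eq (a := (⟨s, hs.1⟩ : ↥N.Q)) (b := O.comm' u) (by rw [O.π_comm', hv]) with e | e <;> rw [e]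
      · exact hsx
      · rw [show xg * (s * N.z) * (xg)⁻¹ = xg * s * (xg)⁻¹ * (xg * N.z * (xg)⁻¹) by group, hsx, O.comm,
          mul_inv_cancel_right]
    rw [O.comm'_inv] at e
    nth_rewrite 1 [← e]
    exact inv_mul_cancel _
  rcases N.π_eq (a := O.comm' u) (b := ⟨s, hs.1⟩) (by rw [O.π_comm', hv]) with e | e <;>
    simp only at e <;> rw [e]
  · exact hT
  · calc (O.comm' u : G) * N.z * ((O.comm' u : G) * N.z)
        = (O.comm' u : G) * (N.z * (O.comm' u : G)) * N.z := by group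
      _ = (O.comm' u : G) * O.comm' u * (N.z * N.z) := by rw [← N.z_comm (O.comm' u).2]; group
      _ = 1 := by rw [hT, N.zz, one_mul]

/-- An element of the intersection over a commutator of the image is the second lift. -/
theorem d_lift {d : G} (hd : d ∈ dG N g) (hd1 : d ≠ 1) {u : ↥N.Q}
    (h : N.π ⟨d, hd.1⟩ = N.ρ O.inv' (N.π u) + N.π u) : d = O.comm' u * N.z := by
  rcases N.π_eq (a := O.comm' u) (b := ⟨d, hd.1⟩) (by rw [O.π_comm', h]) with e | e
  · exfalso
    refine O.not_conj_mul hd hd1 ((isConj_conj g).trans (isConj_iff.2 ⟨u, ?_⟩))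
    rw [O.comm'_spec, ← show d = (O.comm' u : G) from e, O.comm_of_mem hd.2]
  · exact e

theorem z_notMem_d : N.z ∉ dG N g := fun h => O.z_notMem h.2

theorem d_sq {d : G} (hd : d ∈ dG N g) : d * d = 1 := by
  have h := N.sq ⟨d, hd.1⟩
  simp only at h
  split_ifs at h with hq
  · exact h
  · exact absurd (h ▸ mul_mem hd hd) O.z_notMem_d

theorem π_d_ne {d : G} (hd : d ∈ dG N g) (hd1 : d ≠ 1) : N.π ⟨d, hd.1⟩ ≠ 0 := fun h =>
  ((N.ker_iff _).1 h).elim hd1 fun e => O.z_notMem_d ((show d = N.z from e) ▸ hd)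

/-- Twisted: the intersection has no commutator of the image. -/
theorem d_twisted (ht : Twisted N.S (N.ρ O.inv')) {d : G} (hd : d ∈ dG N g) (hd1 : d ≠ 1) :
    ¬ ∃ v, N.ρ O.inv' v + v = N.π ⟨d, hd.1⟩ := by
  rintro ⟨v, hv⟩
  obtain ⟨u, rfl⟩ := N.surj v
  obtain ⟨p, hp, -, -, hz⟩ := O.exists_moved ht
  have e := O.d_lift hd hd1 hv.symm
  refine O.not_conj_mul hd hd1 ((isConj_conj g).trans (isConj_iff.2 ⟨(u : G) * p, ?_⟩))
  calc (u : G) * p * xg * ((u : G) * p)⁻¹ = (u : G) * ((p : G) * xg * (p : G)⁻¹) * (u : G)⁻¹ := by group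
    _ = (u : G) * N.z * xg * (u : G)⁻¹ := by rw [O.comm'_spec, hz]; group
    _ = N.z * ((u : G) * xg * (u : G)⁻¹) := by rw [N.z_comm u.2]; group
    _ = xg * d := by
      rw [O.comm'_spec, ← mul_assoc, ← N.z_comm (O.comm' u).2, ← e, O.comm_of_mem hd.2]

/-- Twisted, the fixed vectors being commutators: the intersection is trivial. -/
theorem d_trivial (hfi : FixImage (N.ρ O.inv')) (ht : Twisted N.S (N.ρ O.inv')) :
    Nat.card ↥(dG N g) = 1 := by
  rw [show dG N g = ⊥ from (eq_bot_iff_forall _).2 fun d hd => by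
    by_contra hd1
    obtain ⟨u, hu⟩ := hfi _ (O.s_le_p (O.d_le_s hd))
    exact O.d_twisted ht hd hd1 ⟨u, hu⟩]
  exact Subgroup.card_bot

omit O in
/-- A set where among three nontrivial elements one is the product of the others has at most four elements. -/
theorem card_le_four {H : Subgroup G} (h : ∀ a ∈ H, ∀ b ∈ H, ∀ c ∈ H, a ≠ 1 → b ≠ 1 → a ≠ b → c ≠ 1 →
    c ≠ a → c ≠ b → c = a * b) : Nat.card ↥H ≤ 4 := by
  classical
  by_cases h1 : ∀ a ∈ H, a = 1
  · rw [(eq_bot_iff_forall _).2 h1, Subgroup.card_bot]; omega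
  push Not at h1
  obtain ⟨a, ha, ha1⟩ := h1
  by_cases h2 : ∀ b ∈ H, b = 1 ∨ b = a
  · calc Nat.card ↥H = (H : Set G).ncard := (Nat.card_coe_set_eq _)
      _ ≤ ({1, a} : Set G).ncard := Set.ncard_le_ncard (fun b hb => by simpa using h2 b hb) (Set.toFinite _)
      _ ≤ 4 := (Set.ncard_insert_le _ _).trans (by rw [Set.ncard_singleton]; norm_num)
  push Not at h2
  obtain ⟨b, hb, hb1, hba⟩ := h2
  calc Nat.card ↥H = (H : Set G).ncard := (Nat.card_coe_set_eq _)
    _ ≤ ({1, a, b, a * b} : Set G).ncard := Set.ncard_le_ncard (fun c hc => by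
        by_cases c1 : c = 1; · simp [c1]
        by_cases ca : c = a; · simp [ca]
        by_cases cb : c = b; · simp [cb]
        simp [h a ha b hb c hc ha1 hb1 (Ne.symm hba) c1 ca cb]) (Set.toFinite _)
    _ ≤ 4 := by
        refine (Set.ncard_insert_le _ _).trans ?_
        have h3 := Set.ncard_insert_le a ({b, a * b} : Set G)
        have h4 := Set.ncard_insert_le b ({a * b} : Set G)
        rw [Set.ncard_singleton] at h4
        omega

/-- Untwisted: the intersection has order at most four. -/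
theorem d_le_four (hfi : FixImage (N.ρ O.inv')) : Nat.card ↥(dG N g) ≤ 4 := by
  have hrep : ∀ d, ∀ hd : d ∈ dG N g, d ≠ 1 → ∃ u : ↥N.Q,
      N.π ⟨d, hd.1⟩ = N.ρ O.inv' (N.π u) + N.π u ∧ d = O.comm' u * N.z := by
    intro d hd hd1
    obtain ⟨v, hv⟩ := hfi _ (O.s_le_p (O.d_le_s hd))
    obtain ⟨u, rfl⟩ := N.surj v
    exact ⟨u, hv.symm, O.d_lift hd hd1 hv.symm⟩
  -- for two representatives of different nontrivial elements the pairing is one
  have hpair : ∀ d e, ∀ hd : d ∈ dG N g, ∀ he : e ∈ dG N g, d ≠ 1 → e ≠ 1 → d * e ≠ 1 → ∀ u w : ↥N.Q,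
      N.π ⟨d, hd.1⟩ = N.ρ O.inv' (N.π u) + N.π u → N.π ⟨e, he.1⟩ = N.ρ O.inv' (N.π w) + N.π w →
      N.S.B (N.π u) (N.ρ O.inv' (N.π w) + N.π w) = 1 := by
    intro d e hd he hd1 he1 hde u w hu hw
    rcases zmod_two_cases (N.S.B (N.π u) (N.ρ O.inv' (N.π w) + N.π w)) with h0 | h0
    swap
    · exact h0
    exfalso
    have hc : (u : G) * O.comm' w = O.comm' w * u := (N.B_eq_zero_iff u (O.comm' w)).1 (by rw [O.π_comm']; exact h0)
    have edw := O.d_lift he he1 hw
    have edu := O.d_lift hd hd1 hu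
    refine O.not_conj_mul (mul_mem hd he) hde ((isConj_conj g).trans (isConj_iff.2 ⟨(u : G) * w, ?_⟩))
    have key : (O.comm' w : G) * O.comm' u = d * e := by
      have hdecomm : d * e = e * d :=
        O.d_central he (O.d_le_s hd)
      rw [hdecomm, edw, edu]
      calc (O.comm' w : G) * O.comm' u = (O.comm' w : G) * O.comm' u * (N.z * N.z) := by rw [N.zz, mul_one]
        _ = (O.comm' w : G) * (O.comm' u * N.z) * N.z := by group
        _ = (O.comm' w : G) * (N.z * O.comm' u) * N.z := by rw [N.z_comm (O.comm' u).2]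
        _ = _ := by group
    calc (u : G) * w * xg * ((u : G) * w)⁻¹ = (u : G) * ((w : G) * xg * (w : G)⁻¹) * (u : G)⁻¹ := by group
      _ = (u : G) * O.comm' w * xg * (u : G)⁻¹ := by rw [O.comm'_spec]; group
      _ = O.comm' w * ((u : G) * xg * (u : G)⁻¹) := by rw [hc]; group
      _ = d * e * xg := by rw [O.comm'_spec, ← mul_assoc, key]
      _ = xg * (d * e) := O.comm_of_mem (mul_mem hd.2 he.2)
  refine card_le_four fun a ha b hb c hc ha1 hb1 hab hc1 hca hcb => ?_
  by_contra hcab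
  have hinv : ∀ {d e : G}, d ∈ dG N g → d ≠ e → d * e ≠ 1 := fun {d e} hd hne h => hne (by
    calc d = d * (d * e) := by rw [h, mul_one]
      _ = e := by rw [← mul_assoc, O.d_sq hd, one_mul])
  obtain ⟨ua, hua, -⟩ := hrep a ha ha1
  obtain ⟨ub, hub, -⟩ := hrep b hb hb1
  obtain ⟨uc, huc, -⟩ := hrep c hc hc1
  have h1 := hpair a b ha hb ha1 hb1 (hinv ha hab) ua ub hua hub
  have h2 := hpair a c ha hc ha1 hc1 (hinv ha (Ne.symm hca)) ua uc hua huc
  have hbc : N.π ⟨b * c, (mul_mem hb hc).1⟩ = N.ρ O.inv' (N.π (ub * uc)) + N.π (ub * uc) := by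
    rw [show (⟨b * c, (mul_mem hb hc).1⟩ : ↥N.Q) = ⟨b, hb.1⟩ * ⟨c, hc.1⟩ from rfl, N.π_mul, hub, huc,
      N.π_mul, O.a_add]
    abel
  have habc : a * (b * c) ≠ 1 := fun h => hcab (by
    calc c = b * (a * (a * (b * c))) := by rw [← mul_assoc a a, O.d_sq ha, one_mul, ← mul_assoc, O.d_sq hb,
          one_mul]
      _ = b * a := by rw [h, mul_one]
      _ = a * b := O.d_central ha (O.d_le_s hb))
  have h3 := hpair a (b * c) ha (mul_mem hb hc) ha1 (hinv hb (Ne.symm hcb)) habc ua (ub * uc) hua hbc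
  rw [N.π_mul, O.a_add, show N.ρ O.inv' (N.π ub) + N.ρ O.inv' (N.π uc) + (N.π ub + N.π uc)
      = (N.ρ O.inv' (N.π ub) + N.π ub) + (N.ρ O.inv' (N.π uc) + N.π uc) by abel, N.S.B_add_right, h1, h2] at h3
  exact absurd h3 (by decide)

theorem lfun_spec {q : ↥N.Q} (hq : N.ρ O.inv' (N.π q) = N.π q) :
    xg * q * (xg)⁻¹ = if (lf N g) (N.π q) = 0 then (q : G) else q * N.z := by
  classical
  by_cases h : ∃ s : G, ∃ hs : s ∈ sG N g, N.π ⟨s, hs.1⟩ = N.π q
  · rw [if_pos (by simp [lf, h])]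
    obtain ⟨s, hs, e⟩ := h
    have hsx : xg * s * (xg)⁻¹ = s := by rw [← mem_centralizer_singleton_iff.1 hs.2, mul_inv_cancel_right]
    rcases N.π_eq e with e' | e' <;> rw [e']
    · exact hsx
    · rw [show xg * (s * N.z) * (xg)⁻¹ = xg * s * (xg)⁻¹ * (xg * N.z * (xg)⁻¹) by group, hsx, O.comm,
        mul_inv_cancel_right]
  · rw [if_neg (by simp [lf, h])]
    refine (O.p_cases hq).resolve_left fun e => h ⟨q, ⟨q.2, ?_⟩, rfl⟩
    exact mem_centralizer_singleton_iff.2 (mul_inv_eq_iff_eq_mul.1 e).symm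

theorem lfun_lfun : LFun N.S (N.ρ O.inv') (lf N g) := by
  refine ⟨fun v w hv hw => ?_, fun v => ?_⟩
  · obtain ⟨p, rfl⟩ := N.surj v
    obtain ⟨q, rfl⟩ := N.surj w
    have h1 := O.lfun_spec hv
    have h2 := O.lfun_spec hw
    have h3 := O.lfun_spec (q := p * q) (by rw [N.π_mul, O.a_add, hv, hw])
    rw [← N.π_mul]
    have h12 : xg * ((p * q : ↥N.Q) : G) * (xg)⁻¹ = (xg * p * (xg)⁻¹) * (xg * q * (xg)⁻¹) := by
      rw [Subgroup.coe_mul]; group
    rw [h1, h2] at h12
    rw [h12] at h3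
    have hz : N.z * (q : G) = q * N.z := (N.z_comm q.2).symm
    have hzq : (p : G) * q * N.z ≠ p * q := fun e => N.z_ne (mul_eq_left.1 e)
    rcases zmod_two_cases ((lf N g) (N.π p)) with a | a <;> rcases zmod_two_cases ((lf N g) (N.π q)) with b | b <;>
      rcases zmod_two_cases ((lf N g) (N.π (p * q))) with c | c <;>
      simp only [a, b, c, one_ne_zero, if_true, if_false, Subgroup.coe_mul, ← mul_assoc] at h3 ⊢ <;>
      first
      | decide
      | (exfalso; first
          | exact hzq h3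
          | exact hzq h3.symm
          | (rw [mul_assoc (p : G) N.z, hz, ← mul_assoc] at h3; first
              | exact hzq h3
              | exact hzq h3.symm
              | (rw [mul_assoc _ N.z N.z, N.zz, mul_one] at h3; first | exact hzq h3 | exact hzq h3.symm)))
  · obtain ⟨u, rfl⟩ := N.surj v
    rw [← O.π_comm']
    have h := O.lfun_spec (q := O.comm' u) (by rw [O.π_comm', O.fix_comm])
    have h2 := O.comm'_sq u
    rw [O.comm'_inv] at h
    rcases zmod_two_cases ((lf N g) (N.π (O.comm' u))) with a | a <;>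
      rcases zmod_two_cases (N.S.B (N.π u) (N.ρ O.inv' (N.π u))) with b | b <;>
      simp only [a, b, one_ne_zero, if_true, if_false] at h h2 ⊢
    · exfalso
      nth_rewrite 1 [← h] at h2
      exact N.z_ne (h2.symm.trans (inv_mul_cancel _))
    · exfalso
      have : (O.comm' u : G) * ((O.comm' u : G) * N.z) = 1 := by rw [← h, mul_inv_cancel]
      rw [← mul_assoc, h2, one_mul] at this
      exact N.z_ne this

/-- Twisted with small radical: the intersection has order at most two. -/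
theorem d_le_two (ht : Twisted N.S (N.ρ O.inv')) (hr : RadSmall N.S (N.ρ O.inv')) :
    Nat.card ↥(dG N g) ≤ 2 := by
  classical
  have key : ∀ d ∈ dG N g, ∀ e ∈ dG N g, d ≠ 1 → e ≠ 1 → d = e := by
    intro d hd e he hd1 he1
    by_contra hne
    have hde : d * e ≠ 1 := fun h => hne (by
      calc d = d * (e * e) := by rw [O.d_sq he, mul_one]
        _ = e := by rw [← mul_assoc, h, one_mul])
    have hl : ∀ {c : G} (hc : c ∈ dG N g), (lf N g) (N.π ⟨c, hc.1⟩) = 0 := fun {c} hc => by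
      unfold lf
      exact if_pos ⟨c, O.d_le_s hc, rfl⟩
    have hperp : ∀ w, N.ρ O.inv' w = w → (lf N g) w = 0 →
        N.S.B (N.π ⟨d, hd.1⟩) w = 0 ∧ N.S.B (N.π ⟨e, he.1⟩) w = 0 := by
      intro w hw hlw
      obtain ⟨q, rfl⟩ := N.surj w
      have hq := O.lfun_spec hw
      rw [if_pos hlw] at hq
      have hqs : (q : G) ∈ sG N g := ⟨q.2, mem_centralizer_singleton_iff.2 (mul_inv_eq_iff_eq_mul.1 hq).symm⟩
      exact ⟨(N.B_eq_zero_iff _ q).2 (O.d_central hd hqs).symm, (N.B_eq_zero_iff _ q).2 (O.d_central he hqs).symm⟩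
    obtain ⟨v, hv⟩ := hr (lf N g) O.lfun_lfun _ _ (O.s_le_p (O.d_le_s hd)) (O.s_le_p (O.d_le_s he)) (hl hd) (hl he)
      hperp (O.d_twisted ht hd hd1) (O.d_twisted ht he he1)
    exact O.d_twisted ht (mul_mem hd he) hde ⟨v, by rw [hv, ← N.π_mul]; rfl⟩
  by_cases h1 : ∀ d ∈ dG N g, d = 1
  · rw [(eq_bot_iff_forall _).2 h1, Subgroup.card_bot]; omega
  push Not at h1
  obtain ⟨a, ha, ha1⟩ := h1
  calc Nat.card ↥(dG N g) = (dG N g : Set G).ncard := Nat.card_coe_set_eq _
    _ ≤ ({1, a} : Set G).ncard := Set.ncard_le_ncard (fun d hd => by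
        by_cases hd1 : d = 1
        · simp [hd1]
        · simp [key d hd a ha hd1 ha1]) (Set.toFinite _)
    _ ≤ 2 := (Set.ncard_insert_le _ _).trans (by rw [Set.ncard_singleton])

/-- The orbit of the conjugate under the preimage of the centraliser of its image. -/
theorem orbit_bound {m : ℕ} (hm : ZeroBound N.S (N.ρ O.inv') m) [Finite V] :
    512 * Nat.card ↥(N.ρ.range ⊓ centralizer ({N.ρ O.inv'} : Set (Equiv.Perm V)) : Subgroup (Equiv.Perm V))
      ≤ Nat.card ↥(kG N g) * (2 * m) := by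
  classical
  set C0 := (centralizer ({N.ρ O.inv'} : Set (Equiv.Perm V))).comap N.ρ with hC0
  have hcard : Nat.card ↥C0 =
      512 * Nat.card ↥(N.ρ.range ⊓ centralizer ({N.ρ O.inv'} : Set (Equiv.Perm V)) : Subgroup (Equiv.Perm V)) := by
    have h := card_map_mul_inf N.ρ C0
    have e : C0 ⊓ N.ρ.ker = N.Q.subgroupOf (centralizer ({N.z} : Set G)) := by
      ext k
      rw [mem_inf, MonoidHom.mem_ker, mem_subgroupOf, ← N.ρ_eq_one_iff]
      refine ⟨fun h => h.2, fun h => ⟨?_, h⟩⟩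
      show N.ρ k ∈ centralizer ({N.ρ O.inv'} : Set (Equiv.Perm V))
      rw [h]; exact one_mem _
    rw [map_comap_eq, e, Nat.card_congr (subgroupOfEquivOfLe N.F.le).toEquiv, N.card] at h
    omega
  letI : MulAction ↥C0 (centralizer ({N.z} : Set G)) :=
    MulAction.compHom _ (MulAut.conj.comp C0.subtype)
  have hsm : ∀ (c : ↥C0) (w : centralizer ({N.z} : Set G)),
      c • w = (c : centralizer ({N.z} : Set G)) * w * (c : centralizer ({N.z} : Set G))⁻¹ := fun _ _ => rfl
  have hst : Nat.card ↥(MulAction.stabilizer ↥C0 O.inv') ≤ Nat.card ↥(kG N g) := by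
    refine Nat.card_le_card_of_injective (fun c => ⟨c.1.1, ?_⟩) fun a b h => ?_
    · have h := c.2
      rw [MulAction.mem_stabilizer_iff, hsm, mul_inv_eq_iff_eq_mul] at h
      exact mem_centralizer_singleton_iff.2 (congrArg Subtype.val h)
    · exact Subtype.ext (Subtype.ext (Subtype.ext (congrArg
        (fun w : ↥(kG N g) => ((w : centralizer ({N.z} : Set G)) : G)) h)))
  -- the orbit consists of involutions of the coset
  let Z := {v : V // N.ρ O.inv' v = v ∧ N.S.q v = (lf N g) v}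
  let r : V → ↥N.Q := Function.surjInv N.surj
  have hr : ∀ v, N.π (r v) = v := Function.surjInv_eq N.surj
  let f : Bool × Z → centralizer ({N.z} : Set G) := fun p =>
    if p.1 then O.inv' * ⟨(r p.2.1 : G) * N.z, N.F.le (mul_mem (r p.2.1).2 N.z_mem)⟩
    else O.inv' * ⟨r p.2.1, N.F.le (r p.2.1).2⟩
  have horb : MulAction.orbit ↥C0 O.inv' ⊆ Set.range f := by
    rintro w ⟨c, rfl⟩
    show c • O.inv' ∈ _
    set y := c • O.inv' with hy
    have hρ : N.ρ y = N.ρ O.inv' := by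
      rw [hy, hsm, map_mul, map_mul, map_inv, mem_centralizer_singleton_iff.1 c.2, mul_inv_cancel_right]
    have hq : (O.inv' : G)⁻¹ * y ∈ N.Q := (N.ρ_eq_iff _ _).1 hρ.symm
    set q : ↥N.Q := ⟨_, hq⟩ with hqdef
    have hyq : (y : G) = xg * q := by
      show (y : G) = xg * ((O.inv' : G)⁻¹ * y)
      rw [← mul_assoc, show (O.inv' : G) = xg from rfl, mul_inv_cancel, one_mul]
    have hy2 : (y : G) * y = 1 := by
      have e : O.inv' * O.inv' = 1 := Subtype.ext O.x_sq
      have : y * y = 1 := by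
        rw [hy, hsm, show ∀ u v : centralizer ({N.z} : Set G), u * v * u⁻¹ * (u * v * u⁻¹) = u * (v * v) * u⁻¹
          from fun u v => by group, e, mul_one, mul_inv_cancel]
      exact congrArg Subtype.val this
    have hinv : xg * q * (xg)⁻¹ = (q : G)⁻¹ := by
      rw [hyq] at hy2
      rw [O.x_inv, eq_comm, inv_eq_of_mul_eq_one_left]
      rw [← hy2]; group
    have hfix : N.ρ O.inv' (N.π q) = N.π q := by
      rw [O.act, ← N.π_inv q]
      congr 1
      exact Subtype.ext hinv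
    have hzq : N.S.q (N.π q) = (lf N g) (N.π q) := by
      have h1 := O.lfun_spec hfix
      have h2 := N.sq q
      rw [hinv] at h1
      rcases zmod_two_cases (N.S.q (N.π q)) with a | a <;> rcases zmod_two_cases ((lf N g) (N.π q)) with b | b <;>
        rw [a, b] <;> simp only [a, b, one_ne_zero, if_true, if_false] at h1 h2
      · exfalso
        have : (q : G) * ((q : G) * N.z) = 1 := by rw [← h1, mul_inv_cancel]
        rw [← mul_assoc, h2, one_mul] at this
        exact N.z_ne this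
      · exfalso
        nth_rewrite 1 [← h1] at h2
        exact N.z_ne (h2.symm.trans (inv_mul_cancel _))
    rcases N.π_eq (a := r (N.π q)) (b := q) (hr _) with e | e
    · exact ⟨(false, ⟨_, hfix, hzq⟩), Subtype.ext (by simp [f, hyq, e]; rfl)⟩
    · exact ⟨(true, ⟨_, hfix, hzq⟩), Subtype.ext (by simp [f, hyq, e]; rfl)⟩
  have hob : Nat.card (MulAction.orbit ↥C0 O.inv') ≤ 2 * m := by
    rw [Nat.card_coe_set_eq]
    refine (Set.ncard_le_ncard horb (Set.toFinite _)).trans ?_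
    rw [← Nat.card_coe_set_eq]
    refine (Finite.card_range_le f).trans ?_
    rw [Nat.card_prod, Nat.card_eq_fintype_card (α := Bool), Fintype.card_bool]
    exact Nat.mul_le_mul_left 2 (hm _ O.lfun_lfun)
  rw [← hcard, ← Nat.card_congr (MulAction.orbitProdStabilizerEquivGroup ↥C0 O.inv'), Nat.card_prod, mul_comm]
  exact Nat.mul_le_mul hst hob

end Out

end CfsgLib.ThType.Fusion
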