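import Cfsg.Agent.Lib.ThType.Fusion.Coset

/-!
# The class properties read off from tables on codes
-/

set_option autoImplicit false
set_option linter.unusedSectionVars false

namespace CfsgLib.ThType.Fusion

open CfsgLib.ExtraNine

/-- A bit as a scalar. -/
def b2z (b : Bool) : ZMod 2 := if b then 1 else 0

theorem b2z_xor (a b : Bool) : b2z (a ^^ b) = b2z a + b2z b := by revert a b; decide

theorem b2z_inj {a b : Bool} (h : b2z a = b2z b) : a = b := by revert a b; decide

/-- Coordinates of a quadratic space of order `2⁸`. -/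
structure Coords {V : Type*} [AddCommGroup V] (S : QV V) (qf : ℕ → Bool) where
  c : ℕ → V
  xor : ∀ u < 256, ∀ w < 256, c (u ^^^ w) = c u + c w
  inj : ∀ u < 256, ∀ w < 256, c u = c w → u = w
  surj : ∀ v, ∃ u < 256, c u = v
  q : ∀ u < 256, S.q (c u) = b2z (qf u)

/-- The polar form on codes. -/
def Bq (qf : ℕ → Bool) (u w : ℕ) : Bool := (qf (u ^^^ w) ^^ qf u) ^^ qf w

/-- The fixed codes. -/
def fixL (f : ℕ → ℕ) : List ℕ := (List.range 256).filter fun u => f u == u

/-- Every fixed code is a commutator. -/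
def imageChk (f : ℕ → ℕ) : Bool :=
  let im := (List.range 256).map fun u => f u ^^^ u
  (fixL f).all fun u => im.contains u

/-- Some code is not perpendicular to its image. -/
def twistChk (qf : ℕ → Bool) (f : ℕ → ℕ) : Bool := (List.range 256).any fun u => Bq qf u (f u)

/-- The code of a combination of six basis codes. -/
def comb (bs : List ℕ) (m : ℕ) : ℕ :=
  (List.range 6).foldr (fun i acc => if Nat.testBit m i then bs.getD i 0 ^^^ acc else acc) 0

/-- The value of a functional on a combination. -/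
def lv (bits m : ℕ) : Bool :=
  (List.range 6).foldr (fun i acc => (Nat.testBit m i && Nat.testBit bits i) ^^ acc) false

/-- The data describe fixed codes and commutators among them. -/
def basisChk (f : ℕ → ℕ) (bs : List ℕ) (wit : List (ℕ × ℕ)) : Bool :=
  (bs.all fun b => decide (b < 256) && f b == b) && (fixL f).all (fun u => ((List.range 64).map (comb bs)).contains u) &&
    ((List.range 64).all fun m => f (comb bs m) == comb bs m) &&
    (wit.all fun p => decide (p.1 < 256) && decide (p.2 < 64) && (f p.1 ^^^ p.1) == comb bs p.2)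

/-- The functional is compatible with the commutators. -/
def okBits (qf : ℕ → Bool) (f : ℕ → ℕ) (wit : List (ℕ × ℕ)) (bits : ℕ) : Bool :=
  wit.all fun p => lv bits p.2 == Bq qf p.1 (f p.1)

/-- The bound on the agreements. -/
def zeroChk (qf : ℕ → Bool) (f : ℕ → ℕ) (bs : List ℕ) (wit : List (ℕ × ℕ)) (n : ℕ) : Bool :=
  (List.range 64).all fun bits => !okBits qf f wit bits ||
    decide (((List.range 64).filter fun m => qf (comb bs m) == lv bits m).length ≤ n)

/-- The radical is small. -/
def radChk (qf : ℕ → Bool) (f : ℕ → ℕ) (bs : List ℕ) (wit : List (ℕ × ℕ)) : Bool :=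
  (List.range 64).all fun bits => !okBits qf f wit bits ||
    let im := wit.map fun p => f p.1 ^^^ p.1
    let Z := ((List.range 64).filter fun m => !lv bits m).map (comb bs)
    let R := Z.filter fun d => !im.contains d && Z.all fun w => !Bq qf d w
    R.all fun d => R.all fun e => im.contains (d ^^^ e)

namespace Coords

variable {V : Type*} [AddCommGroup V] {S : QV V} {qf : ℕ → Bool} (C : Coords S qf)

/-- A permutation given on codes. -/
def IsCode (a : Equiv.Perm V) (f : ℕ → ℕ) : Prop := ∀ u < 256, f u < 256 ∧ a (C.c u) = C.c (f u)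

theorem xlt {u w : ℕ} (hu : u < 256) (hw : w < 256) : u ^^^ w < 256 := Nat.xor_lt_two_pow (n := 8) hu hw

theorem c_zero : C.c 0 = 0 := by
  have h := C.xor 0 (by norm_num) 0 (by norm_num)
  rwa [Nat.xor_self, S.two] at h

theorem B_c {u w : ℕ} (hu : u < 256) (hw : w < 256) : S.B (C.c u) (C.c w) = b2z (Bq qf u w) := by
  rw [QV.B, ← C.xor u hu w hw, C.q _ (xlt hu hw), C.q u hu, C.q w hw, Bq, b2z_xor, b2z_xor]

variable {a : Equiv.Perm V} {f : ℕ → ℕ} (ha : C.IsCode a f)
include ha

theorem fixed_iff {u : ℕ} (hu : u < 256) : a (C.c u) = C.c u ↔ f u = u := by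
  rw [(ha u hu).2]
  exact ⟨C.inj _ (ha u hu).1 u hu, fun h => by rw [h]⟩

theorem comm_eq {u : ℕ} (hu : u < 256) : a (C.c u) + C.c u = C.c (f u ^^^ u) := by
  rw [(ha u hu).2, C.xor _ (ha u hu).1 u hu]

theorem fix_card {n : ℕ} (h : (fixL f).length = n) : Nat.card {v : V // a v = v} = n := by
  classical
  have e : Nat.card {v : V // a v = v} = Nat.card ↥((fixL f).toFinset) := by
    symm
    refine Nat.card_congr (Equiv.ofBijective (fun u => ⟨C.c u.1, ?_⟩) ⟨?_, ?_⟩)
    · have hu := List.mem_filter.1 (List.mem_toFinset.1 u.2)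
      exact (C.fixed_iff ha (List.mem_range.1 hu.1)).2 (beq_iff_eq.1 hu.2)
    · intro u w e
      have hu := List.mem_filter.1 (List.mem_toFinset.1 u.2)
      have hw := List.mem_filter.1 (List.mem_toFinset.1 w.2)
      exact Subtype.ext (C.inj _ (List.mem_range.1 hu.1) _ (List.mem_range.1 hw.1) (congrArg Subtype.val e))
    · rintro ⟨v, hv⟩
      obtain ⟨u, hu, rfl⟩ := C.surj v
      exact ⟨⟨u, List.mem_toFinset.2 (List.mem_filter.2 ⟨List.mem_range.2 hu,
        beq_iff_eq.2 ((C.fixed_iff ha hu).1 hv)⟩)⟩, rfl⟩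
  rw [e, Nat.card_eq_finsetCard, List.toFinset_card_of_nodup (l := fixL f) (List.nodup_range.filter _), h]

theorem fixImage (h : imageChk f = true) : FixImage a := by
  intro v hv
  obtain ⟨u, hu, rfl⟩ := C.surj v
  have hfix : u ∈ fixL f := List.mem_filter.2 ⟨List.mem_range.2 hu, beq_iff_eq.2 ((C.fixed_iff ha hu).1 hv)⟩
  simp only [imageChk, List.all_eq_true, List.contains_iff_mem, List.mem_map, List.mem_range] at h
  obtain ⟨w, hw, rfl⟩ := h u hfix
  exact ⟨C.c w, C.comm_eq ha hw⟩

theorem twisted_iff : Twisted S a ↔ twistChk qf f = true := by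
  simp only [twistChk, List.any_eq_true, List.mem_range]
  constructor
  · rintro ⟨v, hv⟩
    obtain ⟨u, hu, rfl⟩ := C.surj v
    rw [(ha u hu).2, C.B_c hu (ha u hu).1] at hv
    exact ⟨u, hu, b2z_inj (b := true) hv⟩
  · rintro ⟨u, hu, h⟩
    exact ⟨C.c u, by rw [(ha u hu).2, C.B_c hu (ha u hu).1, h]; rfl⟩

variable {bs : List ℕ} {wit : List (ℕ × ℕ)} (hb : basisChk f bs wit = true)
include hb

theorem comb_lt (m : ℕ) : comb bs m < 256 := by
  simp only [basisChk, Bool.and_eq_true, List.all_eq_true, decide_eq_true_eq] at hb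
  unfold comb
  induction List.range 6 with
  | nil => simp
  | cons i l ih =>
    rw [List.foldr_cons]
    by_cases h : Nat.testBit m i
    · rw [if_pos h]
      refine xlt ?_ ih
      by_cases hi : i < bs.length
      · rw [List.getD_eq_getElem _ _ hi]; exact (hb.1.1.1 _ (List.getElem_mem hi)).1
      · rw [List.getD_eq_default _ _ (by omega)]; norm_num
    · rwa [if_neg h]

/-- A functional is given by six bits. -/
theorem exists_bits (hadd : ∀ v w, a (v + w) = a v + a w) {l : V → ZMod 2} (hl : LFun S a l) :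
    ∃ bits < 64, okBits qf f wit bits = true ∧ ∀ m < 64, l (C.c (comb bs m)) = b2z (lv bits m) := by
  classical
  have key : ∀ g : Fin 6 → Bool, ∃ bits < 64, ∀ i : Fin 6, Nat.testBit bits i = g i := by decide +kernel
  obtain ⟨bits, hbits, hg⟩ := key fun i => decide (l (C.c (bs.getD i 0)) = 1)
  have hchk := hb
  simp only [basisChk, Bool.and_eq_true, List.all_eq_true, decide_eq_true_eq, beq_iff_eq, List.mem_range] at hchk
  obtain ⟨⟨⟨hbs, -⟩, hcomb⟩, hwit⟩ := hchk
  have l0 : l 0 = 0 := by
    have h0 : a 0 = 0 := by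
      rw [← C.c_zero]
      refine (C.fixed_iff ha (by norm_num)).2 ?_
      simpa [comb] using hcomb 0 (by norm_num)
    have h := hl.1 0 0 h0 h0
    rw [add_zero] at h
    exact left_eq_add.1 h
  have hbfix : ∀ i, bs.getD i 0 < 256 ∧ f (bs.getD i 0) = bs.getD i 0 := fun i => by
    by_cases hi : i < bs.length
    · rw [List.getD_eq_getElem _ _ hi]; exact hbs _ (List.getElem_mem hi)
    · rw [List.getD_eq_default _ _ (by omega)]
      exact ⟨by norm_num, by simpa [comb] using hcomb 0 (by norm_num)⟩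
  have hval : ∀ m, l (C.c (comb bs m)) = b2z (lv bits m) := by
    intro m
    suffices H : ∀ L : List ℕ, (∀ i ∈ L, i < 6) →
        let u := L.foldr (fun i acc => if Nat.testBit m i then bs.getD i 0 ^^^ acc else acc) 0
        u < 256 ∧ a (C.c u) = C.c u ∧
          l (C.c u) = b2z (L.foldr (fun i acc => (Nat.testBit m i && Nat.testBit bits i) ^^ acc) false) from
      (H _ fun i hi => List.mem_range.1 hi).2.2
    intro L
    induction L with
    | nil =>
      intro _
      refine ⟨by norm_num, (C.fixed_iff ha (by norm_num)).2 (by simpa [comb] using hcomb 0 (by norm_num)), ?_⟩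
      rw [List.foldr_nil, C.c_zero, l0]; rfl
    | cons i L ih =>
      intro hL u
      obtain ⟨h1, h2, h3⟩ := ih fun j hj => hL j (List.mem_cons_of_mem _ hj)
      have hu : u = (i :: L).foldr (fun i acc => if Nat.testBit m i then bs.getD i 0 ^^^ acc else acc) 0 := rfl
      rw [hu, List.foldr_cons, List.foldr_cons]
      by_cases h : Nat.testBit m i
      · obtain ⟨b1, b2⟩ := hbfix i
        have b3 := (C.fixed_iff ha b1).2 b2
        rw [if_pos h, h, Bool.true_and, b2z_xor, C.xor _ b1 _ h1]
        refine ⟨xlt b1 h1, ?_, ?_⟩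
        · rw [hadd, b3, h2]
        · rw [hl.1 _ _ b3 h2, h3]
          congr 1
          have e := hg ⟨i, hL i List.mem_cons_self⟩
          simp only at e
          rw [e]
          generalize l (C.c (bs.getD i 0)) = z
          revert z; decide
      · rw [if_neg h, Bool.eq_false_iff.2 h, Bool.false_and, Bool.false_xor]
        exact ⟨h1, h2, h3⟩
  refine ⟨bits, hbits, ?_, fun m _ => hval m⟩
  simp only [okBits, List.all_eq_true, beq_iff_eq]
  intro p hp
  obtain ⟨⟨p1, p2⟩, p3⟩ := hwit p hp
  apply b2z_inj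
  rw [← hval, ← p3, ← C.comm_eq ha p1, hl.2, (ha _ p1).2, C.B_c p1 (ha _ p1).1]

theorem fixed_comb {v : V} (hv : a v = v) : ∃ m < 64, C.c (comb bs m) = v := by
  simp only [basisChk, Bool.and_eq_true, List.all_eq_true, List.contains_iff_mem, List.mem_map,
    List.mem_range] at hb
  obtain ⟨u, hu, rfl⟩ := C.surj v
  obtain ⟨m, hm, e⟩ := hb.1.1.2 u (List.mem_filter.2 ⟨List.mem_range.2 hu, beq_iff_eq.2 ((C.fixed_iff ha hu).1 hv)⟩)
  exact ⟨m, hm, by rw [e]⟩

theorem zeroBound (hadd : ∀ v w, a (v + w) = a v + a w) {n : ℕ} (hz : zeroChk qf f bs wit n = true) : ZeroBound S a n := by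
  classical
  intro l hl
  obtain ⟨bits, hbits, hok, hval⟩ := C.exists_bits ha hb hadd hl
  simp only [zeroChk, List.all_eq_true, List.mem_range, Bool.or_eq_true, Bool.not_eq_true', decide_eq_true_eq] at hz
  have hlen := (hz bits hbits).resolve_left (by rw [hok]; decide)
  refine le_trans ?_ hlen
  set Z := (List.range 64).filter fun m => qf (comb bs m) == lv bits m with hZ
  have h0 : Nat.card {v : V // a v = v ∧ S.q v = l v} ≤ Nat.card ↥(Z.toFinset) := by
    refine Nat.card_le_card_of_injective (fun v => ⟨(C.fixed_comb ha hb v.2.1).choose, ?_⟩) ?_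
    · obtain ⟨hm, e⟩ := (C.fixed_comb ha hb v.2.1).choose_spec
      refine List.mem_toFinset.2 (List.mem_filter.2 ⟨List.mem_range.2 hm, beq_iff_eq.2 (b2z_inj ?_)⟩)
      rw [← C.q _ (C.comb_lt ha hb _), ← hval _ hm, e]
      exact v.2.2
    · intro v w e
      have ev := (C.fixed_comb ha hb v.2.1).choose_spec.2
      have ew := (C.fixed_comb ha hb w.2.1).choose_spec.2
      refine Subtype.ext ?_
      rw [← ev, ← ew, show (C.fixed_comb ha hb v.2.1).choose = (C.fixed_comb ha hb w.2.1).choose from
        congrArg Subtype.val e]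
  rw [Nat.card_eq_finsetCard] at h0
  exact h0.trans (List.toFinset_card_le _)

theorem radSmall (hadd : ∀ v w, a (v + w) = a v + a w) (hr : radChk qf f bs wit = true) : RadSmall S a := by
  intro l hl d e hd he ld le hrad nd ne
  obtain ⟨bits, hbits, hok, hval⟩ := C.exists_bits ha hb hadd hl
  obtain ⟨md, hmd, rfl⟩ := C.fixed_comb ha hb hd
  obtain ⟨me, hme, rfl⟩ := C.fixed_comb ha hb he
  have hchk := hb
  simp only [basisChk, Bool.and_eq_true, List.all_eq_true, decide_eq_true_eq, beq_iff_eq, List.mem_range] at hchk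
  obtain ⟨⟨-, hcomb⟩, hwit⟩ := hchk
  simp only [radChk, List.all_eq_true, List.mem_range, Bool.or_eq_true, Bool.not_eq_true'] at hr
  have hr' := (hr bits hbits).resolve_left (by rw [hok]; decide)
  set Z := ((List.range 64).filter fun m => !lv bits m).map (comb bs) with hZ
  set im := wit.map fun p => f p.1 ^^^ p.1 with him
  have hz0 : ∀ m < 64, l (C.c (comb bs m)) = 0 → comb bs m ∈ Z := fun m hm h =>
    List.mem_map.2 ⟨m, List.mem_filter.2 ⟨List.mem_range.2 hm, by
      rw [Bool.not_eq_true']; exact b2z_inj ((hval m hm).symm.trans h)⟩, rfl⟩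
  have inR : ∀ m < 64, l (C.c (comb bs m)) = 0 → (∀ w, a w = w → l w = 0 → S.B (C.c (comb bs m)) w = 0) →
      (¬ ∃ u, a u + u = C.c (comb bs m)) →
      comb bs m ∈ Z.filter fun d => !im.contains d && Z.all fun w => !Bq qf d w := by
    intro m hm h0 hB hn
    refine List.mem_filter.2 ⟨hz0 m hm h0, ?_⟩
    rw [Bool.and_eq_true, Bool.not_eq_true', ← Bool.not_eq_true, List.contains_iff_mem, List.all_eq_true]
    refine ⟨?_, fun w hw => ?_⟩
    · intro hmem
      obtain ⟨p, hp, e⟩ := List.mem_map.1 hmem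
      exact hn ⟨C.c p.1, by rw [C.comm_eq ha (hwit p hp).1.1, e]⟩
    · obtain ⟨mw, hmw, rfl⟩ := List.mem_map.1 hw
      rw [List.mem_filter, List.mem_range, Bool.not_eq_true'] at hmw
      have h := hB _ ((C.fixed_iff ha (C.comb_lt ha hb _)).2 (hcomb mw hmw.1)) (by
        rw [hval mw hmw.1, hmw.2]; rfl)
      rw [C.B_c (C.comb_lt ha hb _) (C.comb_lt ha hb _)] at h
      rw [Bool.not_eq_true']
      exact b2z_inj (b := false) h
  have hR1 := inR md hmd ld (fun w hw hl0 => (hrad w hw hl0).1) nd
  have hR2 := inR me hme le (fun w hw hl0 => (hrad w hw hl0).2) ne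
  obtain ⟨p, hp, ep⟩ := List.mem_map.1 (List.contains_iff_mem.1
    (hr' _ hR1 _ hR2))
  exact ⟨C.c p.1, by rw [C.comm_eq ha (hwit p hp).1.1, ep, C.xor _ (C.comb_lt ha hb _) _ (C.comb_lt ha hb _)]⟩

end Coords

end CfsgLib.ThType.Fusion
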