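import Mathlib.Data.List.GetD
import Mathlib.Data.List.FinRange
import Mathlib.GroupTheory.Perm.Sign
import Mathlib.GroupTheory.SpecificGroups.Alternating
import Mathlib.Tactic

/-!
# Permutations of nine points as lists of their values, and their enumeration
-/

set_option autoImplicit false
set_option maxRecDepth 100000

namespace CfsgLib.ThType.Nine

/-- The permutations of nine points. -/
abbrev P9 : Type := Equiv.Perm (Fin 9)

/-- The values. -/
def enc (p : P9) : List ℕ := (List.finRange 9).map fun i => (p i : ℕ)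

/-- The composite. -/
def pm (a b : List ℕ) : List ℕ := b.map fun i => a.getD i 0

/-- The inverse. -/
def pinv (a : List ℕ) : List ℕ := (List.range 9).map fun i => a.idxOf i

/-- The identity. -/
def one9 : List ℕ := List.range 9

/-- An iterated square. -/
def sqN : ℕ → List ℕ → List ℕ
  | 0, a => a
  | n + 1, a => sqN n (pm a a)

/-- The list of a transposition. -/
def swL (i j : ℕ) : List ℕ := (List.range 9).map fun k => if k = i then j else if k = j then i else k

/-- A sorting sequence of transpositions. -/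
def swapsOf : ℕ → List ℕ → List (ℕ × ℕ)
  | 0, _ => []
  | n + 1, L =>
    let i := 8 - n
    let j := L.getD i 0
    if j = i then swapsOf n L else (i, j) :: swapsOf n (pm (swL i j) L)

/-- The product of a sequence of transpositions, as a list. -/
def encSw : List (ℕ × ℕ) → List ℕ
  | [] => one9
  | p :: s => pm (swL p.1 p.2) (encSw s)

/-- The list is that of a permutation, with sorting sequence. -/
def sorts (L : List ℕ) : Bool :=
  encSw (swapsOf 9 L) == L && (swapsOf 9 L).all fun p => decide (p.1 < 9) && decide (p.2 < 9) && !(p.1 == p.2)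

/-- The parity of the sorting sequence. -/
def evenL (L : List ℕ) : Bool := (swapsOf 9 L).length % 2 == 0

/-- Extension of prefixes. -/
def dfs (ok : List ℕ → Bool) : ℕ → List (List ℕ)
  | 0 => [[]]
  | n + 1 => (dfs ok n).flatMap fun L =>
      ((List.range 9).map fun v => L ++ [v]).filter fun M => !L.contains (M.getLast!) && ok M

theorem enc_getElem (p : P9) (i : Fin 9) : (enc p).getD i 0 = (p i : ℕ) := by
  simp [enc, i.2]

theorem enc_length (p : P9) : (enc p).length = 9 := by simp [enc]

theorem enc_injective : Function.Injective enc := fun p q h =>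
  Equiv.ext fun i => Fin.ext (by rw [← enc_getElem p i, ← enc_getElem q i, h])

theorem pm_enc (p q : P9) : enc (p * q) = pm (enc p) (enc q) := by
  simp only [enc, pm, List.map_map]
  refine List.map_congr_left fun i _ => ?_
  exact (enc_getElem p (q i)).symm

theorem enc_one : enc 1 = one9 := by decide

theorem eq_one_of_enc {p : P9} (h : enc p = one9) : p = 1 := enc_injective (h.trans enc_one.symm)

theorem enc_nodup (p : P9) : (enc p).Nodup :=
  (List.nodup_finRange 9).map fun a b e => p.injective (Fin.ext e)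

theorem pinv_enc (p : P9) : pinv (enc p) = enc p⁻¹ := by
  refine List.ext_getElem (by simp [pinv, enc]) fun i h1 h2 => ?_
  have hi : i < 9 := by simpa [pinv] using h1
  have hj : ((p⁻¹ ⟨i, hi⟩ : Fin 9) : ℕ) < (enc p).length := by rw [enc_length]; exact (p⁻¹ ⟨i, hi⟩).2
  have e : (enc p)[((p⁻¹ ⟨i, hi⟩ : Fin 9) : ℕ)] = i := by simp [enc]
  have h := (enc_nodup p).idxOf_getElem _ hj
  rw [e] at h
  simp only [pinv, List.getElem_map, List.getElem_range, h]
  simp [enc]

theorem sqN_enc : ∀ (n : ℕ) (p : P9), sqN n (enc p) = enc (p ^ 2 ^ n)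
  | 0, p => by simp [sqN]
  | n + 1, p => by
    rw [sqN, ← pm_enc, sqN_enc n, ← sq, ← pow_mul, ← pow_succ']

theorem swL_enc (i j : Fin 9) : enc (Equiv.swap i j) = swL i j := by revert i j; decide +kernel

theorem encSw_enc : ∀ (s : List (ℕ × ℕ)), (∀ p ∈ s, p.1 < 9 ∧ p.2 < 9 ∧ p.1 ≠ p.2) →
    ∃ σ : P9, enc σ = encSw s ∧ (Equiv.Perm.sign σ = 1 ↔ s.length % 2 = 0)
  | [], _ => ⟨1, enc_one, by simp⟩
  | p :: s, h => by
    obtain ⟨σ, hσ, hs⟩ := encSw_enc s fun q hq => h q (List.mem_cons_of_mem _ hq)
    obtain ⟨h1, h2, h3⟩ := h p List.mem_cons_self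
    refine ⟨Equiv.swap ⟨p.1, h1⟩ ⟨p.2, h2⟩ * σ, by rw [pm_enc, swL_enc, hσ, encSw], ?_⟩
    rw [map_mul, Equiv.Perm.sign_swap (fun e => h3 (congrArg Fin.val e)), List.length_cons]
    rcases Int.units_eq_one_or (Equiv.Perm.sign σ) with e | e
    · have := hs.1 e
      rw [e]
      exact ⟨fun h => absurd h (by decide), fun h => by omega⟩
    · have : ¬ s.length % 2 = 0 := fun h => absurd (hs.2 h) (by rw [e]; decide)
      rw [e]
      exact ⟨fun _ => by omega, fun _ => by decide⟩

/-- A list that sorts is that of a permutation of the given parity. -/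
theorem of_sorts {L : List ℕ} (h : sorts L = true) :
    ∃ σ : P9, enc σ = L ∧ (σ ∈ alternatingGroup (Fin 9) ↔ evenL L = true) := by
  simp only [sorts, Bool.and_eq_true, beq_iff_eq, List.all_eq_true, decide_eq_true_eq, Bool.not_eq_true',
    beq_eq_false_iff_ne] at h
  obtain ⟨σ, hσ, hs⟩ := encSw_enc _ fun p hp => ⟨(h.2 p hp).1.1, (h.2 p hp).1.2, (h.2 p hp).2⟩
  exact ⟨σ, hσ.trans h.1, by rw [Equiv.Perm.mem_alternatingGroup, hs, evenL, beq_iff_eq]⟩

/-- The enumeration is complete. -/
theorem mem_dfs {ok : List ℕ → Bool} (p : P9) (hok : ∀ k ≤ 9, 1 ≤ k → ok ((enc p).take k) = true) :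
    ∀ n ≤ 9, (enc p).take n ∈ dfs ok n := by
  intro n
  induction n with
  | zero => simp [dfs]
  | succ n ih =>
    intro hn
    have hn' : n < (enc p).length := by rw [enc_length]; omega
    have e : (enc p).take (n + 1) = (enc p).take n ++ [(enc p)[n]] := by rw [List.take_succ_eq_append_getElem hn']
    rw [dfs, List.mem_flatMap]
    refine ⟨_, ih (by omega), List.mem_filter.2 ⟨List.mem_map.2 ⟨(enc p)[n], ?_, e.symm⟩, ?_⟩⟩
    · rw [List.mem_range]
      simp [enc]
    · rw [Bool.and_eq_true, Bool.not_eq_true', ← Bool.not_eq_true, List.contains_iff_mem]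
      refine ⟨?_, hok _ hn (by omega)⟩
      rw [e, List.getLast!_eq_getLast?_getD, List.getLast?_append, List.getLast?_singleton]
      simp only [Option.some_or, Option.getD_some]
      have hnd : (enc p).Nodup := (List.nodup_finRange 9).map fun a b e => p.injective (Fin.ext e)
      intro hmem
      obtain ⟨i, hi, ei⟩ := List.getElem_of_mem hmem
      rw [List.getElem_take] at ei
      rw [List.length_take] at hi
      exact absurd (hnd.getElem_inj_iff.1 ei) (by omega)

theorem enc_mem_dfs {ok : List ℕ → Bool} (p : P9) (hok : ∀ k ≤ 9, 1 ≤ k → ok ((enc p).take k) = true) :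
    enc p ∈ dfs ok 9 := by
  have h := mem_dfs p hok 9 le_rfl
  rwa [List.take_of_length_le (by rw [enc_length])] at h

/-- Prefixes commuting with a given permutation. -/
def commOk (a L : List ℕ) : Bool := (List.range L.length).all fun i =>
  !decide (a.getD i 0 < L.length) || L.getD (a.getD i 0) 0 == a.getD (L.getD i 0) 0

/-- Prefixes of involutions. -/
def involOk (L : List ℕ) : Bool := (List.range L.length).all fun i =>
  !decide (L.getD i 0 < L.length) || L.getD (L.getD i 0) 0 == i

/-- Prefixes preserving the first `k` points. -/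
def stabOk (k : ℕ) (L : List ℕ) : Bool := (List.range L.length).all fun i =>
  decide (L.getD i 0 < k) == decide (i < k)

theorem take_getD (p : P9) {k i : ℕ} (hi : i < k) (hk : k ≤ 9) :
    ((enc p).take k).getD i 0 = (p ⟨i, hi.trans_le hk⟩ : ℕ) := by
  rw [← enc_getElem p ⟨i, hi.trans_le hk⟩, List.getD_eq_getElem _ _ (by simp [enc_length]; omega),
    List.getD_eq_getElem _ _ (by simp [enc_length]; omega), List.getElem_take]

theorem commOk_take {a p : P9} (h : a * p = p * a) {k : ℕ} (hk : k ≤ 9) : commOk (enc a) ((enc p).take k) = true := by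
  have hl : ((enc p).take k).length = k := by simp [enc_length, hk]
  simp only [commOk, hl, List.all_eq_true, List.mem_range, Bool.or_eq_true, Bool.not_eq_true',
    decide_eq_false_iff_not, beq_iff_eq]
  intro i hi
  rw [enc_getElem a ⟨i, hi.trans_le hk⟩]
  by_cases hai : (a ⟨i, hi.trans_le hk⟩ : ℕ) < k
  · right
    rw [take_getD p hai hk, take_getD p hi hk, enc_getElem]
    exact congrArg (fun f : P9 => ((f ⟨i, hi.trans_le hk⟩ : Fin 9) : ℕ)) h.symm
  · exact .inl hai

theorem involOk_take {p : P9} (h : p * p = 1) {k : ℕ} (hk : k ≤ 9) : involOk ((enc p).take k) = true := by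
  have hl : ((enc p).take k).length = k := by simp [enc_length, hk]
  simp only [involOk, hl, List.all_eq_true, List.mem_range, Bool.or_eq_true, Bool.not_eq_true',
    decide_eq_false_iff_not, beq_iff_eq]
  intro i hi
  rw [take_getD p hi hk]
  by_cases hai : (p ⟨i, hi.trans_le hk⟩ : ℕ) < k
  · right
    rw [take_getD p hai hk]
    exact congrArg (fun f : P9 => ((f ⟨i, hi.trans_le hk⟩ : Fin 9) : ℕ)) h
  · exact .inl hai

theorem stabOk_take {p : P9} {j : ℕ} (h : ∀ i : Fin 9, (p i : ℕ) < j ↔ (i : ℕ) < j) {k : ℕ} (hk : k ≤ 9) :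
    stabOk j ((enc p).take k) = true := by
  have hl : ((enc p).take k).length = k := by simp [enc_length, hk]
  simp only [stabOk, hl, List.all_eq_true, List.mem_range, beq_iff_eq]
  intro i hi
  rw [take_getD p hi hk]
  simpa using h ⟨i, hi.trans_le hk⟩

end CfsgLib.ThType.Nine
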