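import Cfsg.Agent.Lib.ThOut.AutChecks
import Cfsg.Agent.Lib.ThType.Fusion.NineList

/-!
# Tables of the spin module: the three-cycles, two involutions, and the orbit of singular codes
-/

set_option autoImplicit false
set_option maxRecDepth 100000

namespace CfsgLib.ThType.Fusion

open CfsgLib.ThOut

/-- The images of the eight codes under the seven cycles. -/
def spinGen : List (List ℕ) :=
  [[203, 206, 205, 71, 55, 216, 135, 15],
   [156, 149, 31, 150, 155, 75, 244, 143],
   [240, 225, 27, 236, 226, 179, 115, 211],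
   [87, 118, 99, 171, 39, 117, 51, 92],
   [108, 45, 103, 79, 188, 107, 46, 83],
   [59, 186, 120, 163, 139, 147, 199, 185],
   [167, 89, 124, 228, 172, 248, 180, 220]]

/-- The images under the involution with four moved points. -/
def spinA : List ℕ := [87, 91, 210, 209, 172, 147, 115, 128]

/-- The images under the involution with eight moved points. -/
def spinB : List ℕ := [167, 91, 121, 182, 174, 93, 230, 217]

/-- Its word in the cycles. -/
def wordA : List ℕ := [0, 1, 1, 0]

/-- Its word in the cycles. -/
def wordB : List ℕ := [4, 2, 5, 3, 4, 2, 0, 1, 1, 0]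

/-- The orbit of the first code: image, preimage, cycle. -/
def singTree : List (ℕ × ℕ × ℕ) :=
  [(203, 1, 0), (156, 1, 1), (240, 1, 2), (87, 1, 3), (108, 1, 4), (59, 1, 5), (167, 1, 6),
   (202, 203, 0), (228, 203, 1), (93, 203, 2), (229, 203, 3), (115, 203, 4), (92, 203, 5), (114, 203, 6),
   (178, 156, 0), (157, 156, 1), (198, 156, 2), (179, 156, 3), (199, 156, 4), (233, 156, 5), (232, 156, 6),
   (103, 240, 0), (171, 240, 1), (241, 240, 2), (61, 240, 3), (170, 240, 4), (102, 240, 5), (60, 240, 6),
   (120, 87, 0), (121, 87, 1), (155, 87, 2), (86, 87, 3), (180, 87, 4), (181, 87, 5), (154, 87, 6),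
   (213, 108, 0), (54, 108, 1), (55, 108, 2), (142, 108, 3), (109, 108, 4), (143, 108, 5), (212, 108, 6),
   (173, 59, 0), (79, 59, 1), (172, 59, 2), (216, 59, 3), (217, 59, 4), (58, 59, 5), (78, 59, 6),
   (31, 167, 0), (210, 167, 1), (106, 167, 2), (107, 167, 3), (30, 167, 4), (211, 167, 5), (166, 167, 6),
   (47, 228, 1), (8, 228, 2), (113, 228, 4), (149, 228, 5), (236, 228, 6), (122, 93, 1), (150, 93, 2),
   (139, 93, 3), (214, 93, 4), (39, 93, 6), (248, 229, 2), (46, 229, 3), (29, 229, 4), (174, 229, 5),
   (75, 229, 6), (45, 115, 1), (51, 115, 2), (64, 115, 3), (184, 115, 4), (94, 115, 5), (230, 92, 1),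
   (220, 92, 3), (186, 92, 4), (151, 92, 5), (128, 92, 6), (177, 114, 1), (195, 114, 2), (23, 114, 3),
   (101, 114, 5), (185, 114, 6), (99, 178, 2), (169, 178, 4), (27, 178, 5), (209, 178, 6), (90, 198, 2),
   (188, 198, 5), (77, 198, 6), (147, 179, 2), (197, 179, 4), (32, 179, 5), (118, 179, 6), (91, 199, 4),
   (135, 199, 5), (234, 199, 6), (15, 233, 2), (53, 233, 4), (117, 233, 5), (255, 232, 2), (89, 232, 4),
   (116, 232, 6), (4, 103, 3), (206, 103, 6), (163, 171, 3), (62, 171, 6), (205, 61, 3), (244, 170, 3),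
   (153, 170, 6), (83, 102, 3), (105, 102, 6), (204, 60, 6), (182, 120, 4), (124, 120, 5), (218, 121, 4),
   (71, 121, 5), (225, 155, 4), (16, 155, 5), (227, 180, 4), (226, 181, 5), (141, 154, 4), (43, 154, 5),
   (85, 47, 2), (2, 47, 4), (201, 47, 5), (158, 47, 6), (110, 150, 3), (165, 150, 4), (242, 46, 5),
   (57, 46, 6)]

/-- A linear map given by the images of the eight codes. -/
def lin8 (m : List ℕ) (v : ℕ) : ℕ :=
  (List.range 8).foldr (fun i acc => if Nat.testBit v i then m.getD i 0 ^^^ acc else acc) 0

/-- The images along a word in the cycles. -/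
def linW : List ℕ → ℕ → ℕ
  | [], v => v
  | k :: w, v => lin8 (spinGen.getD k []) (linW w v)

theorem spinGen_ok : ((List.range 7).all fun k => (List.range 8).all fun i =>
    imgW (cycW.getD k []) (2 ^ i) == (spinGen.getD k []).getD i 0) = true := by decide +kernel

theorem spinGen_lt : ((List.range 7).all fun k => (spinGen.getD k []).all fun x => decide (x < 256)) = true := by
  decide +kernel

theorem word_ok : ((List.range 8).all fun i =>
    linW wordA (2 ^ i) == spinA.getD i 0 && linW wordB (2 ^ i) == spinB.getD i 0) = true := by decide +kernel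

theorem tree_ok : (singTree.all fun e => decide (e.2.1 < 256) && decide (e.2.2 < 7) &&
    lin8 (spinGen.getD e.2.2 []) e.2.1 == e.1) = true := by decide +kernel

end CfsgLib.ThType.Fusion
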