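import Cfsg.Agent.Lib.ThType.Fusion.Classes
import Cfsg.Agent.Lib.ThType.Fusion.SpinData
import Cfsg.Agent.Lib.ThType.Coords.Spec

/-!
# Fusion in the spin case

Some conjugate of the central involution is another involution of the extraspecial subgroup; all those
involutions are conjugate in the centraliser, so a conjugation exchanges the roles inside each four-group.
-/

set_option autoImplicit false
set_option linter.unusedSectionVars false
set_option maxRecDepth 100000

namespace CfsgLib.ThType.Fusion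

open Subgroup CfsgLib.ExtraNine CfsgLib.ThType.Nine CfsgLib.ThType.Perm CfsgLib.ThOut

theorem spin_checksA : (fixL (lin8 spinA)).length = 16 ∧ imageChk (lin8 spinA) = true ∧
    twistChk Coords.qs (lin8 spinA) = false := by
  refine ⟨?_, ?_, ?_⟩ <;> decide +kernel

theorem spin_checksB : (fixL (lin8 spinB)).length = 16 ∧ imageChk (lin8 spinB) = true ∧
    twistChk Coords.qs (lin8 spinB) = true := by
  refine ⟨?_, ?_, ?_⟩ <;> decide +kernel

/-- The tree covers the singular codes. -/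
theorem tree_cover : ((List.range 256).all fun u => u == 0 || u == 1 || Coords.qs u ||
    singTree.any fun e => e.1 == u) = true := by decide +kernel

/-- Every parent is the root or was reached before. -/
theorem tree_order : ((List.range singTree.length).all fun i => (singTree.getD i (0, 0, 0)).2.1 == 1 ||
    (singTree.take i).any fun e => e.1 == (singTree.getD i (0, 0, 0)).2.1) = true := by decide +kernel

/-- The element of a word in the cycles. -/
def cwProd (w : List ℕ) : A9 := (w.map fun k => Coords.cg (Fin.ofNat 7 k)).prod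

theorem word_enc : enc (cwProd wordA : P9) = aA ∧ enc (cwProd wordB : P9) = aB := by
  refine ⟨?_, ?_⟩ <;> decide +kernel

theorem lin8_lt {m : List ℕ} (h : ∀ x ∈ m, x < 256) (v : ℕ) : lin8 m v < 256 := by
  unfold lin8
  induction List.range 8 with
  | nil => simp
  | cons i l ih =>
    rw [List.foldr_cons]
    split_ifs
    · refine Nat.xor_lt_two_pow (n := 8) ?_ ih
      by_cases hi : i < m.length
      · rw [List.getD_eq_getElem _ _ hi]; exact h _ (List.getElem_mem hi)
      · rw [List.getD_eq_default _ _ (by omega)]; norm_num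
    · exact ih

namespace Coords

variable {V : Type*} [AddCommGroup V] {S : QV V} {qf : ℕ → Bool} (C : Coords S qf)

/-- An additive map is determined on codes by the eight images. -/
theorem code_lin {a : Equiv.Perm V} (hadd : ∀ v w, a (v + w) = a v + a w) {m : List ℕ} (hm : ∀ x ∈ m, x < 256)
    (h : ∀ i < 8, a (C.c (2 ^ i)) = C.c (m.getD i 0)) : C.IsCode a (lin8 m) := by
  intro u hu
  refine ⟨lin8_lt hm u, ?_⟩
  have h0 : a 0 = 0 := by
    have e := hadd 0 0
    rw [add_zero] at e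
    exact left_eq_add.1 e
  have hget : ∀ i, m.getD i 0 < 256 := fun i => by
    by_cases hi : i < m.length
    · rw [List.getD_eq_getElem _ _ hi]; exact hm _ (List.getElem_mem hi)
    · rw [List.getD_eq_default _ _ (by omega)]; norm_num
  suffices H : ∀ L : List ℕ, (∀ i ∈ L, i < 8) →
      L.foldr (fun i acc => if Nat.testBit u i then 2 ^ i ^^^ acc else acc) 0 < 256 ∧
      L.foldr (fun i acc => if Nat.testBit u i then m.getD i 0 ^^^ acc else acc) 0 < 256 ∧
      a (C.c (L.foldr (fun i acc => if Nat.testBit u i then 2 ^ i ^^^ acc else acc) 0)) =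
        C.c (L.foldr (fun i acc => if Nat.testBit u i then m.getD i 0 ^^^ acc else acc) 0) by
    have e := (H (List.range 8) fun i hi => List.mem_range.1 hi).2.2
    have hrec : ∀ u : Fin 256,
        (List.range 8).foldr (fun i acc => if Nat.testBit (u : ℕ) i then 2 ^ i ^^^ acc else acc) 0 = (u : ℕ) := by
      decide +kernel
    rw [hrec ⟨u, hu⟩] at e
    exact e
  intro L
  induction L with
  | nil => intro _; simp [C.c_zero, h0]
  | cons i L ih =>
    intro hL
    obtain ⟨h1, h2, h3⟩ := ih fun j hj => hL j (List.mem_cons_of_mem _ hj)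
    simp only [List.foldr_cons]
    have hi := hL i List.mem_cons_self
    have hp : 2 ^ i < 256 := by
      calc 2 ^ i < 2 ^ 8 := Nat.pow_lt_pow_right (by norm_num) hi
        _ = _ := by norm_num
    split_ifs
    · exact ⟨xlt hp h1, xlt (hget i) h2, by rw [C.xor _ hp _ h1, hadd, h i hi, h3, C.xor _ (hget i) _ h2]⟩
    · exact ⟨h1, h2, h3⟩

end Coords

section

variable {V : Type*} [AddCommGroup V] {S : QV V} {A : Act A9 V} (P : Coords.Spin S A)
include P

theorem gen_code (k : ℕ) (hk : k < 7) :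
    P.C.IsCode (A.σ (Coords.cg (Fin.ofNat 7 k))) (lin8 (spinGen.getD k [])) := by
  have hmem : ∀ x ∈ spinGen.getD k [], x < 256 := fun x hx => by
    have h := List.all_eq_true.1 (List.all_eq_true.1 spinGen_lt k (List.mem_range.2 hk)) x hx
    exact of_decide_eq_true h
  refine P.C.code_lin (A.add _) hmem fun i hi => ?_
  rw [(P.code (Fin.ofNat 7 k) (2 ^ i) (by
    calc 2 ^ i < 2 ^ 8 := Nat.pow_lt_pow_right (by norm_num) hi
      _ = _ := by norm_num)).2]
  have h := List.all_eq_true.1 (List.all_eq_true.1 spinGen_ok k (List.mem_range.2 hk)) i (List.mem_range.2 hi)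
  rw [beq_iff_eq] at h
  rw [Coords.cW, Fin.val_ofNat, Nat.mod_eq_of_lt hk, h]

theorem word_code : ∀ w : List ℕ, (∀ k ∈ w, k < 7) → P.C.IsCode (A.σ (cwProd w)) (linW w)
  | [], _ => fun u hu => ⟨hu, by
      show A.σ (cwProd []) (P.C.c u) = _
      rw [cwProd, List.map_nil, List.prod_nil, map_one]; rfl⟩
  | k :: w, h => fun u hu => by
    obtain ⟨h1, h2⟩ := word_code w (fun j hj => h j (List.mem_cons_of_mem _ hj)) u hu
    obtain ⟨h3, h4⟩ := gen_code P k (h k List.mem_cons_self) _ h1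
    refine ⟨h3, ?_⟩
    rw [cwProd, List.map_cons, List.prod_cons, map_mul, Equiv.Perm.mul_apply]
    show A.σ _ (A.σ (cwProd w) (P.C.c u)) = _
    rw [h2, h4]; rfl

theorem code_A : P.C.IsCode (A.σ (cwProd wordA)) (lin8 spinA) := by
  refine P.C.code_lin (A.add _) (by decide +kernel) fun i hi => ?_
  rw [(word_code P wordA (by decide) (2 ^ i) (by
    calc 2 ^ i < 2 ^ 8 := Nat.pow_lt_pow_right (by norm_num) hi
      _ = _ := by norm_num)).2]
  have h := List.all_eq_true.1 word_ok i (List.mem_range.2 hi)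
  rw [Bool.and_eq_true, beq_iff_eq, beq_iff_eq] at h
  rw [h.1]

theorem code_B : P.C.IsCode (A.σ (cwProd wordB)) (lin8 spinB) := by
  refine P.C.code_lin (A.add _) (by decide +kernel) fun i hi => ?_
  rw [(word_code P wordB (by decide) (2 ^ i) (by
    calc 2 ^ i < 2 ^ 8 := Nat.pow_lt_pow_right (by norm_num) hi
      _ = _ := by norm_num)).2]
  have h := List.all_eq_true.1 word_ok i (List.mem_range.2 hi)
  rw [Bool.and_eq_true, beq_iff_eq, beq_iff_eq] at h
  rw [h.2]

/-- One orbit of nonzero singular vectors. -/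
theorem sing_trans {v w : V} (hv : v ≠ 0) (hqv : S.q v = 0) (hw : w ≠ 0) (hqw : S.q w = 0) :
    ∃ g : A9, A.σ g v = w := by
  have hall : ∀ i ≤ singTree.length, ∀ e ∈ singTree.take i, ∃ g : A9, A.σ g (P.C.c 1) = P.C.c e.1 := by
    intro i
    induction i with
    | zero => intro _ e he; simp at he
    | succ i ih =>
      intro hi e he
      rw [List.take_succ_eq_append_getElem (by omega), List.mem_append, List.mem_singleton] at he
      rcases he with he | rfl
      · exact ih (by omega) e he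
      have hi' : i < singTree.length := by omega
      have ho := List.all_eq_true.1 tree_order i (List.mem_range.2 hi')
      rw [List.getD_eq_getElem _ _ hi', Bool.or_eq_true, beq_iff_eq, List.any_eq_true] at ho
      have ht := List.all_eq_true.1 tree_ok _ (List.getElem_mem hi')
      simp only [Bool.and_eq_true, decide_eq_true_eq, beq_iff_eq] at ht
      obtain ⟨⟨t1, t2⟩, t3⟩ := ht
      obtain ⟨g, hg⟩ : ∃ g : A9, A.σ g (P.C.c 1) = P.C.c (singTree[i]).2.1 := by
        rcases ho with h | ⟨e', he', h⟩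
        · exact ⟨1, by rw [map_one, h]; rfl⟩
        · rw [beq_iff_eq] at h
          rw [← h]
          exact ih (by omega) e' he'
      refine ⟨Coords.cg (Fin.ofNat 7 (singTree[i]).2.2) * g, ?_⟩
      rw [map_mul, Equiv.Perm.mul_apply, hg, ((gen_code P _ t2) _ t1).2, t3]
  have key : ∀ v : V, v ≠ 0 → S.q v = 0 → ∃ g : A9, A.σ g (P.C.c 1) = v := by
    intro v hv hq
    obtain ⟨u, hu, rfl⟩ := P.C.surj v
    have hu0 : u ≠ 0 := fun h => hv (by rw [h]; exact P.C.c_zero)
    have hqu : Coords.qs u = false := b2z_inj (b := false) ((P.C.q u hu).symm.trans hq)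
    have h := List.all_eq_true.1 tree_cover u (List.mem_range.2 hu)
    simp only [Bool.or_eq_true, beq_iff_eq, hu0, hqu, false_or, Bool.false_eq_true, or_false,
      List.any_eq_true] at h
    rcases h with rfl | ⟨e, he, rfl⟩
    · exact ⟨1, by rw [map_one]; rfl⟩
    · exact hall _ le_rfl e (by rwa [List.take_length])
  obtain ⟨g, rfl⟩ := key v hv hqv
  obtain ⟨h, rfl⟩ := key w hw hqw
  exact ⟨h * g⁻¹, by rw [← Equiv.Perm.mul_apply, ← map_mul, inv_mul_cancel_right]⟩

end

variable {G : Type*} [Group G] [Finite G] {V : Type*} [AddCommGroup V] {N : Nine G V} {A : Act A9 V}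
  (P : Coords.Spin N.S A) (hinj : Function.Injective A.σ) (hr : A.σ.range = N.ρ.range)
include P hinj hr

theorem spin_classes [Finite V] : Classes N.S N.ρ.range := by
  have hiso : ∀ g, A.σ g ∈ N.S.Iso := fun g => by
    obtain ⟨h, hh⟩ := (hr ▸ ⟨g, rfl⟩ : A.σ g ∈ N.ρ.range)
    rw [← hh]; exact N.ρ_mem h
  let R : Rep N.S := ⟨A.σ, hinj, hiso⟩
  obtain ⟨a1, a2, a3⟩ := spin_checksA
  obtain ⟨b1, b2, b3⟩ := spin_checksB
  exact hr ▸ R.classes P.C (gA := cwProd wordA) (gB := cwProd wordB) word_enc.1 word_enc.2 (code_A P) (code_B P)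
    (fun R' C' h => .inl (R'.typeA C' h word_enc.1 a1 a2 a3)) (fun R' C' h => R'.typeC C' h word_enc.2 b1 b2 b3)

/-- The noncentral involutions of the extraspecial subgroup are conjugate in the centraliser. -/
theorem inQ_trans {x y : G} (hx : x ∈ N.Q) (hx2 : x * x = 1) (hx1 : x ≠ 1) (hxz : x ≠ N.z)
    (hy : y ∈ N.Q) (hy2 : y * y = 1) (hy1 : y ≠ 1) (hyz : y ≠ N.z) :
    ∃ k ∈ centralizer ({N.z} : Set G), k * x * k⁻¹ = y := by
  have hv : ∀ {x : G} (hx : x ∈ N.Q), x * x = 1 → x ≠ 1 → x ≠ N.z →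
      N.π ⟨x, hx⟩ ≠ 0 ∧ N.S.q (N.π ⟨x, hx⟩) = 0 := by
    intro x hx h2 h1 hz
    refine ⟨fun h => ((N.ker_iff _).1 h).elim h1 hz, (zmod_two_cases _).resolve_right fun h => ?_⟩
    have e := N.sq ⟨x, hx⟩
    rw [h, if_neg (by decide)] at e
    exact N.z_ne (e.symm.trans h2)
  obtain ⟨g, hg⟩ := sing_trans P (hv hx hx2 hx1 hxz).1 (hv hx hx2 hx1 hxz).2 (hv hy hy2 hy1 hyz).1
    (hv hy hy2 hy1 hyz).2
  obtain ⟨k, hk⟩ := (hr ▸ ⟨g, rfl⟩ : A.σ g ∈ N.ρ.range)
  rw [← hk, N.ρ_π] at hg
  rcases N.π_eq hg with e | e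
  · exact ⟨k, k.2, e.symm⟩
  · -- a translation inside the extraspecial subgroup
    obtain ⟨w, hw⟩ : ∃ w, N.S.B (N.π ⟨(k : G) * x * (k : G)⁻¹, N.conj_mem k.2 ⟨x, hx⟩⟩) w = 1 := by
      by_contra hno
      push Not at hno
      refine (hv hy hy2 hy1 hyz).1 (hg.symm.trans (N.S.nondeg _ fun w => ?_))
      exact (zmod_two_cases _).resolve_right (hno w)
    obtain ⟨q, rfl⟩ := N.surj w
    have hc := N.comm q ⟨(k : G) * x * (k : G)⁻¹, N.conj_mem k.2 ⟨x, hx⟩⟩
    rw [N.S.B_comm, hw, if_neg (by decide)] at hc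
    refine ⟨q * k, mul_mem (N.F.le q.2) k.2, ?_⟩
    change y = (k : G) * x * (k : G)⁻¹ * N.z at e
    rw [e]
    change (q : G) * ((k : G) * x * (k : G)⁻¹) * (q : G)⁻¹ * ((k : G) * x * (k : G)⁻¹)⁻¹ = N.z at hc
    have hzc : N.z * ((k : G) * x * (k : G)⁻¹) = (k : G) * x * (k : G)⁻¹ * N.z :=
      (N.z_comm (N.conj_mem k.2 ⟨x, hx⟩)).symm
    rw [← hzc]
    calc (q : G) * (k : G) * x * ((q : G) * (k : G))⁻¹
        = (q : G) * ((k : G) * x * (k : G)⁻¹) * (q : G)⁻¹ * ((k : G) * x * (k : G)⁻¹)⁻¹ *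
            ((k : G) * x * (k : G)⁻¹) := by group
      _ = _ := by rw [hc]

/-- Another involution of the extraspecial subgroup is conjugate to the central one. -/
theorem spin_inQ [Finite V] (hG : centralizer ({N.z} : Set G) ⊔ Cfsg.oddCore G ≠ ⊤) :
    ∃ g : G, g * N.z * g⁻¹ ∈ N.Q ∧ g * N.z * g⁻¹ ≠ N.z :=
  exists_inQ (spin_classes P hinj hr) hG

/-- Every noncentral involution of the extraspecial subgroup is conjugate to the central one. -/
theorem fused [Finite V] (hG : centralizer ({N.z} : Set G) ⊔ Cfsg.oddCore G ≠ ⊤) {c : G} (hc : c ∈ N.Q)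
    (hc2 : c * c = 1) (hc1 : c ≠ 1) (hcz : c ≠ N.z) : ∃ g : G, g * N.z * g⁻¹ = c := by
  obtain ⟨g, hx, hne⟩ := spin_inQ P hinj hr hG
  have hx2 : g * N.z * g⁻¹ * (g * N.z * g⁻¹) = 1 := by
    rw [show g * N.z * g⁻¹ * (g * N.z * g⁻¹) = g * (N.z * N.z) * g⁻¹ by group, N.zz]; group
  obtain ⟨k, -, hk⟩ := inQ_trans P hinj hr hx hx2 (fun h => N.z_ne (conj_eq_one_iff.1 h)) hne hc hc2 hc1 hcz
  exact ⟨k * g, by rw [← hk]; group⟩

/-- A conjugation takes the central involution to its product with a given one and that one to it. -/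
theorem exists_swap [Finite V] (hG : centralizer ({N.z} : Set G) ⊔ Cfsg.oddCore G ≠ ⊤) {c : G} (hc : c ∈ N.Q)
    (hc2 : c * c = 1) (hc1 : c ≠ 1) (hcz : c ≠ N.z) :
    ∃ h : G, h * N.z * h⁻¹ = N.z * c ∧ h * c * h⁻¹ = N.z := by
  letI := Fintype.ofFinite V
  obtain ⟨g, hg⟩ := fused P hinj hr hG hc hc2 hc1 hcz
  -- the central involution lies in the conjugate of the extraspecial subgroup
  have hgQ : g * N.z * g⁻¹ ∈ N.Q := hg ▸ hc
  obtain ⟨w, hw, hw'⟩ := (N.pairHyp hgQ (hg ▸ hcz)).automizer.2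
  change g * w * g⁻¹ = N.z at hw'
  have hw2 : w * w = 1 := by
    have : g * (w * w) * g⁻¹ = 1 := by
      rw [show g * (w * w) * g⁻¹ = g * w * g⁻¹ * (g * w * g⁻¹) by group, hw', N.zz]
    exact conj_eq_one_iff.1 this
  have hzc : N.z * c * (N.z * c) = 1 := by
    have e := N.z_comm hc
    calc N.z * c * (N.z * c) = N.z * (c * N.z) * c := by group
      _ = N.z * (N.z * c) * c := by rw [e]
      _ = N.z * N.z * (c * c) := by group
      _ = 1 := by rw [N.zz, hc2, one_mul]
  obtain ⟨k, hk, hk'⟩ := inQ_trans P hinj hr hw hw2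
    (fun h => N.z_ne (by rw [← hw', h]; group))
    (fun h => hcz (by rw [← hg, ← h, hw', h]))
    (mul_mem N.z_mem hc) hzc
    (fun h => hcz (by rw [← inv_eq_of_mul_eq_one_right h, inv_eq_of_mul_eq_one_right N.zz]))
    (fun h => hc1 (mul_eq_left.1 h))
  refine ⟨k * g⁻¹, ?_, ?_⟩
  · rw [← hk', show w = g⁻¹ * N.z * g by rw [← hw']; group]; group
  · rw [← hg, show k * g⁻¹ * (g * N.z * g⁻¹) * (k * g⁻¹)⁻¹ = k * N.z * k⁻¹ by group, N.conj_z hk]

end CfsgLib.ThType.Fusion
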