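import Cfsg.Agent.Lib.ThType.Fusion.PermExcl
import Cfsg.Agent.Lib.ThType.Fusion.SpinFusion

/-!
# The two cases of the module, as used by the recognition
-/

set_option autoImplicit false

namespace CfsgLib.ThType.Fusion

open Subgroup CfsgLib.ExtraNine CfsgLib.ThType.Perm

variable {G : Type*} [Group G] [Finite G] {V : Type*} [AddCommGroup V] {N : Nine G V}

/-- Unless the centraliser covers the group modulo the odd core, no three-cycle fixes a nonzero vector. -/
theorem no_fixed (A : Act A9 V) (hinj : Function.Injective A.σ) (hr : A.σ.range = N.ρ.range)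
    (hcard : Nat.card V = 256) (hG : centralizer ({N.z} : Set G) ⊔ Cfsg.oddCore G ≠ ⊤) :
    ¬ ∃ f : V, f ≠ 0 ∧ A.σ (cy 0 1 2) f = f := by
  intro hfix
  refine not_fixing ⟨A.σ, hinj, fun g => ?_⟩ hr hcard hfix hG
  obtain ⟨h, hh⟩ := (hr ▸ ⟨g, rfl⟩ : A.σ g ∈ N.ρ.range)
  rw [← hh]; exact N.ρ_mem h

end CfsgLib.ThType.Fusion
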