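import Cfsg.Agent.Lib.ThType.Fusion.NineChecks
import Mathlib.GroupTheory.Perm.Centralizer
import Mathlib.GroupTheory.Sylow

/-!
# The two classes of involutions of `A₉` and their centralisers
-/

set_option autoImplicit false
set_option maxRecDepth 100000

namespace CfsgLib.ThType.Nine

open Subgroup

/-- The even permutations commuting with a given one. -/
abbrev CA (a : P9) : Subgroup P9 := alternatingGroup (Fin 9) ⊓ centralizer ({a} : Set P9)

theorem gN_lt (x i : ℕ) : gN x i < 16 := Nat.lt_of_le_of_lt Nat.and_le_right (by norm_num)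

theorem gN_pk : ∀ (L : List ℕ), (∀ v ∈ L, v < 16) → ∀ i, gN (pk L) i = L.getD i 0
  | [], _, i => by simp [pk, gN]
  | v :: L, h, i => by
    have hv : v < 16 := h v List.mem_cons_self
    show ((v + 16 * pk L) >>> (4 * i)) &&& 15 = _
    rw [show (15 : ℕ) = 2 ^ 4 - 1 from rfl, Nat.and_two_pow_sub_one_eq_mod, Nat.shiftRight_eq_div_pow]
    cases i with
    | zero => simp; omega
    | succ i =>
      have ih := gN_pk L (fun w hw => h w (List.mem_cons_of_mem _ hw)) i
      rw [gN, show (15 : ℕ) = 2 ^ 4 - 1 from rfl, Nat.and_two_pow_sub_one_eq_mod, Nat.shiftRight_eq_div_pow] at ih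
      rw [List.getD_cons_succ, ← ih, show 4 * (i + 1) = 4 + 4 * i by ring, pow_add, ← Nat.div_div_eq_div_mul]
      congr 2
      omega

/-- The packed values. -/
def encN (p : P9) : ℕ := pk (enc p)

theorem enc_lt (p : P9) : ∀ v ∈ enc p, v < 16 := by
  intro v hv
  obtain ⟨i, -, rfl⟩ := List.mem_map.1 hv
  omega

theorem gN_encN (p : P9) (i : Fin 9) : gN (encN p) i = (p i : ℕ) := by
  rw [encN, gN_pk _ (enc_lt p), enc_getElem]

theorem dec_encN (p : P9) : dec (encN p) = enc p := by
  refine List.ext_getElem (by simp [dec, enc]) fun i h1 h2 => ?_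
  have hi : i < 9 := by simpa [dec] using h1
  simp only [dec, List.getElem_map, List.getElem_range]
  rw [show gN (encN p) i = (p ⟨i, hi⟩ : ℕ) from gN_encN p ⟨i, hi⟩]
  simp [enc]

theorem encN_injective : Function.Injective encN := fun p q h =>
  enc_injective (by rw [← dec_encN, ← dec_encN, h])

theorem pmN_encN (p q : P9) : encN (p * q) = pmN (encN p) (encN q) := by
  rw [pmN, encN, enc]
  congr 1
  refine List.ext_getElem (by simp) fun i h1 h2 => ?_
  have hi : i < 9 := by simpa using h1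
  simp only [List.getElem_map, List.getElem_range, List.getElem_finRange, Fin.cast_mk]
  rw [show gN (encN q) i = (q ⟨i, hi⟩ : ℕ) from gN_encN q ⟨i, hi⟩, gN_encN]
  rfl

theorem invN_encN (p : P9) : invN (encN p) = encN p⁻¹ := by
  have e1 : ∀ f : Fin 9 → ℕ, pk ((List.finRange 9).map f) = ∑ i : Fin 9, f i * 16 ^ (i : ℕ) := fun f => by
    simp [pk, List.finRange_succ, Fin.sum_univ_succ]
    ring
  have e2 : ∀ g : ℕ → ℕ, (List.range 9).foldr (fun i acc => i <<< (4 * g i) + acc) 0 =
      ∑ i : Fin 9, (i : ℕ) * 16 ^ g i := fun g => by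
    simp [List.range_succ, Fin.sum_univ_succ, Nat.shiftLeft_eq, pow_mul]
  rw [invN, e2, show encN p⁻¹ = pk (enc p⁻¹) from rfl, enc, e1, ← Equiv.sum_comp p fun i => ((p⁻¹ i : Fin 9) : ℕ) * 16 ^ (i : ℕ)]
  refine Finset.sum_congr rfl fun i _ => ?_
  rw [gN_encN]
  simp

theorem cjN_encN (k p : P9) : cjN (encN k) (encN p) = encN (k * p * k⁻¹) := by
  rw [cjN, invN_encN, ← pmN_encN, ← pmN_encN]

theorem encN_one : encN 1 = oneN := by rw [encN, enc_one]; rfl

theorem exists_perm (L : List ℕ) (h : (sorts L && evenL L) = true) :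
    ∃ a : P9, enc a = L ∧ a ∈ alternatingGroup (Fin 9) := by
  rw [Bool.and_eq_true] at h
  obtain ⟨σ, hσ, hp⟩ := of_sorts h.1
  exact ⟨σ, hσ, hp.2 h.2⟩

/-- A checked number is an element of the centraliser. -/
theorem of_inC {a : P9} {L : List ℕ} (ha : enc a = L) {x : ℕ} (h : inC L x = true) :
    ∃ p ∈ CA a, encN p = x := by
  simp only [inC, Bool.and_eq_true, beq_iff_eq] at h
  obtain ⟨⟨⟨h1, h2⟩, h3⟩, h4⟩ := h
  obtain ⟨p, hp, hpA⟩ := exists_perm (dec x) (by rw [h1, h2]; rfl)
  have e : encN p = x := by rw [encN, hp, h3]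
  refine ⟨p, ⟨hpA, mem_centralizer_singleton_iff.2 (encN_injective ?_)⟩, e⟩
  rw [pmN_encN, pmN_encN, e, encN, ha, h4]

/-- A checked list is a subgroup. -/
def listGroup (l : List ℕ) (h : grpChk l = true) : Subgroup P9 where
  carrier := {p | encN p ∈ l}
  one_mem' := by
    simp only [grpChk, Bool.and_eq_true, List.contains_iff_mem] at h
    show encN 1 ∈ l
    rw [encN_one]; exact h.1
  mul_mem' := fun {p q} hp hq => by
    simp only [grpChk, Bool.and_eq_true, List.all_eq_true, List.contains_iff_mem] at h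
    show encN (p * q) ∈ l
    rw [pmN_encN]; exact h.2 _ hp _ hq
  inv_mem' := fun {p} hp => by
    simp only [grpChk, Bool.and_eq_true, List.all_eq_true, List.contains_iff_mem] at h
    have hk : ∀ k : ℕ, encN (p ^ k) ∈ l := fun k => by
      induction k with
      | zero => rw [pow_zero, encN_one]; exact h.1
      | succ k ih => rw [pow_succ, pmN_encN]; exact h.2 _ ih _ hp
    show encN p⁻¹ ∈ l
    rw [show p⁻¹ = p ^ (orderOf p - 1) from inv_eq_of_mul_eq_one_left (by
      rw [← pow_succ, Nat.sub_add_cancel (orderOf_pos p), pow_orderOf_eq_one])]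
    exact hk _

theorem card_set_le (M : Subgroup P9) (l : List ℕ) (h : ∀ m ∈ M, encN m ∈ l) : Nat.card ↥M ≤ l.length := by
  have h1 : Nat.card ↥M ≤ Nat.card ↥(l.toFinset) :=
    Nat.card_le_card_of_injective (fun m => ⟨encN m.1, List.mem_toFinset.2 (h m.1 m.2)⟩)
      fun m m' e => Subtype.ext (encN_injective (congrArg Subtype.val e))
  rw [Nat.card_eq_finsetCard] at h1
  exact h1.trans (List.toFinset_card_le l)

theorem listGroup_card {a : P9} {L : List ℕ} (ha : enc a = L) {l : List ℕ} {n : ℕ} (h : grpChk l = true)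
    (hm : (l.all (inC L) && decide l.Nodup && l.length == n) = true) :
    Nat.card ↥(listGroup l h) = n ∧ listGroup l h ≤ CA a := by
  simp only [Bool.and_eq_true, List.all_eq_true, decide_eq_true_eq, beq_iff_eq] at hm
  refine ⟨?_, fun p hp => ?_⟩
  · refine le_antisymm (hm.2 ▸ card_set_le _ l fun m hm => hm) ?_
    rw [← hm.2, ← List.toFinset_card_of_nodup hm.1.2, ← Nat.card_eq_finsetCard]
    refine Nat.card_le_card_of_injective (fun x => ⟨(of_inC ha (hm.1.1 _ (List.mem_toFinset.1 x.2))).choose, ?_⟩) ?_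
    · show encN _ ∈ l
      rw [(of_inC ha (hm.1.1 _ (List.mem_toFinset.1 x.2))).choose_spec.2]
      exact List.mem_toFinset.1 x.2
    · intro x y e
      have := congrArg (fun p : ↥(listGroup l h) => encN p.1) e
      simp only [(of_inC ha (hm.1.1 _ (List.mem_toFinset.1 x.2))).choose_spec.2,
        (of_inC ha (hm.1.1 _ (List.mem_toFinset.1 y.2))).choose_spec.2] at this
      exact Subtype.ext this
  · obtain ⟨q, hq, e⟩ := of_inC ha (hm.1.1 _ hp)
    rwa [← encN_injective e]

/-- A two-subgroup has a conjugate inside a subgroup of the largest two-power order. -/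
theorem conj_le {C P M : Subgroup P9} (hP : P ≤ C) (hM : M ≤ C) {e : ℕ} (hcP : Nat.card ↥P = 2 ^ e)
    (hC : ¬ 2 ^ (e + 1) ∣ Nat.card ↥C) (hM2 : IsPGroup 2 ↥M) :
    ∃ k ∈ C, ∀ m ∈ M, k * m * k⁻¹ ∈ P := by
  haveI : Fact (Nat.Prime 2) := ⟨Nat.prime_two⟩
  have hP' : IsPGroup 2 ↥(P.subgroupOf C) := IsPGroup.of_card (n := e)
    (by rw [Nat.card_congr (subgroupOfEquivOfLe hP).toEquiv, hcP])
  have hM' : IsPGroup 2 ↥(M.subgroupOf C) := hM2.of_equiv (subgroupOfEquivOfLe hM).symm
  obtain ⟨R, hR⟩ := hP'.exists_le_sylow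
  obtain ⟨T, hT⟩ := hM'.exists_le_sylow
  have hRP : P.subgroupOf C = (R : Subgroup ↥C) := by
    refine Subgroup.eq_of_le_of_card_ge hR ?_
    obtain ⟨j, hj⟩ := R.2.exists_card_eq
    rw [Nat.card_congr (subgroupOfEquivOfLe hP).toEquiv, hcP, hj]
    refine Nat.pow_le_pow_right (by norm_num) ?_
    by_contra hlt
    exact hC ((pow_dvd_pow 2 (show e + 1 ≤ j by omega)).trans (hj ▸ Subgroup.card_subgroup_dvd_card _))
  obtain ⟨g, hg⟩ := MulAction.exists_smul_eq ↥C T R
  refine ⟨g, g.2, fun m hm => ?_⟩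
  have hin : g * ⟨m, hM hm⟩ * g⁻¹ ∈ (R : Subgroup ↥C) := by
    rw [← hg, Sylow.coe_subgroup_smul]
    exact ⟨⟨m, hM hm⟩, hT hm, rfl⟩
  rw [← hRP] at hin
  exact hin

theorem inv_cycleType {a : P9} (h2 : a * a = 1) (h1 : a ≠ 1) :
    ∃ n, a.cycleType = Multiset.replicate n 2 ∧ 1 ≤ n ∧ 2 * n = a.support.card ∧ 2 * n ≤ 9 := by
  have ho : orderOf a = 2 := orderOf_eq_prime (by rw [sq, h2]) h1
  obtain ⟨n, hn⟩ := Equiv.Perm.cycleType_prime_order (σ := a) (by rw [ho]; exact Nat.prime_two)
  rw [ho] at hn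
  have hs := Equiv.Perm.sum_cycleType a
  rw [hn, Multiset.sum_replicate, smul_eq_mul] at hs
  refine ⟨n + 1, hn, by omega, by omega, ?_⟩
  have := Finset.card_le_univ a.support
  rw [Fintype.card_fin] at this
  omega

theorem mul_self_of_enc {a : P9} {L : List ℕ} (h : enc a = L) (h2 : pm L L = one9) : a * a = 1 :=
  eq_one_of_enc (by rw [pm_enc, h, h2])

theorem support_card {a : P9} {L : List ℕ} (h : enc a = L) :
    a.support.card = ((Finset.univ : Finset (Fin 9)).filter fun i : Fin 9 => L.getD i 0 ≠ i).card := by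
  congr 1
  ext i
  simp only [Equiv.Perm.mem_support, Finset.mem_filter, Finset.mem_univ, true_and, ← h, enc_getElem]
  exact not_congr Fin.ext_iff

/-- The order of the centraliser of an involution fixing a point, within the even permutations. -/
theorem cent_card {a t : P9} {n : ℕ} (hn : a.cycleType = Multiset.replicate n 2) (hn0 : n ≠ 0)
    (ht : Equiv.Perm.sign t = -1) (hta : t * a = a * t) :
    2 * Nat.card ↥(CA a) = Nat.factorial (9 - 2 * n) * 2 ^ n * Nat.factorial n := by
  classical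
  have h := Equiv.Perm.nat_card_centralizer a
  rw [hn, Multiset.sum_replicate, Multiset.prod_replicate, smul_eq_mul, Fintype.card_fin] at h
  have hfin : (Multiset.replicate n 2).toFinset = ({2} : Finset ℕ) := by
    rw [Multiset.toFinset_replicate, if_neg hn0]
  rw [hfin, Finset.prod_singleton, Multiset.count_replicate_self, mul_comm n 2] at h
  rw [← h]
  set C := centralizer ({a} : Set P9) with hC
  let f : ↥C →* ℤˣ := Equiv.Perm.sign.comp C.subtype
  have hker : f.ker.map C.subtype = CA a := by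
    ext x
    constructor
    · rintro ⟨y, hy, rfl⟩
      exact ⟨hy, y.2⟩
    · rintro ⟨hx, hxc⟩
      exact ⟨⟨x, hxc⟩, hx, rfl⟩
  have hsurj : Function.Surjective f := fun u => by
    rcases Int.units_eq_one_or u with rfl | rfl
    · exact ⟨1, map_one f⟩
    · exact ⟨⟨t, mem_centralizer_singleton_iff.2 hta⟩, ht⟩
  have hq : Nat.card (↥C ⧸ f.ker) = 2 := by
    rw [Nat.card_congr (QuotientGroup.quotientKerEquivOfSurjective f hsurj).toEquiv, Nat.card_eq_fintype_card,
      Fintype.card_units_int]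
  rw [Subgroup.card_eq_card_quotient_mul_card_subgroup f.ker, hq, ← hker,
    Subgroup.card_map_of_injective C.subtype_injective]

theorem sign_list {t : P9} {L : List ℕ} (h : enc t = L) (hs : sorts L = true) (he : evenL L = false) :
    Equiv.Perm.sign t = -1 := by
  obtain ⟨σ, hσ, hp⟩ := of_sorts hs
  obtain rfl : σ = t := enc_injective (hσ.trans h.symm)
  rcases Int.units_eq_one_or (Equiv.Perm.sign σ) with e | e
  · exact absurd (hp.1 (Equiv.Perm.mem_alternatingGroup.2 e)) (by rw [he]; decide)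
  · exact e

theorem exists_odd_A : ∃ t : P9, enc t = [0, 1, 2, 3, 4, 5, 6, 8, 7] ∧ Equiv.Perm.sign t = -1 := by
  obtain ⟨t, ht, -⟩ := of_sorts (L := [0, 1, 2, 3, 4, 5, 6, 8, 7]) (by decide +kernel)
  exact ⟨t, ht, sign_list ht (by decide +kernel) (by decide +kernel)⟩

theorem exists_odd_B : ∃ t : P9, enc t = [1, 0, 2, 3, 4, 5, 6, 7, 8] ∧ Equiv.Perm.sign t = -1 := by
  obtain ⟨t, ht, -⟩ := of_sorts (L := [1, 0, 2, 3, 4, 5, 6, 7, 8]) (by decide +kernel)
  exact ⟨t, ht, sign_list ht (by decide +kernel) (by decide +kernel)⟩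

theorem comm_of_list {t a : P9} {L L' : List ℕ} (h : enc t = L) (h' : enc a = L') (e : pm L L' = pm L' L) :
    t * a = a * t := enc_injective (by rw [pm_enc, pm_enc, h, h', e])

theorem aA_type {a : P9} (h : enc a = aA) : a.cycleType = Multiset.replicate 2 2 := by
  obtain ⟨n, hn, -, hs, -⟩ := inv_cycleType (mul_self_of_enc h (by decide +kernel))
    (fun e => absurd (h.symm.trans (e ▸ enc_one)) (by decide +kernel))
  rw [support_card h, show ((Finset.univ : Finset (Fin 9)).filter fun i : Fin 9 => aA.getD i 0 ≠ i).card = 4 by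
    decide +kernel] at hs
  rwa [show n = 2 by omega] at hn

theorem aB_type {a : P9} (h : enc a = aB) : a.cycleType = Multiset.replicate 4 2 := by
  obtain ⟨n, hn, -, hs, -⟩ := inv_cycleType (mul_self_of_enc h (by decide +kernel))
    (fun e => absurd (h.symm.trans (e ▸ enc_one)) (by decide +kernel))
  rw [support_card h, show ((Finset.univ : Finset (Fin 9)).filter fun i : Fin 9 => aB.getD i 0 ≠ i).card = 8 by
    decide +kernel] at hs
  rwa [show n = 4 by omega] at hn

theorem cardA {a : P9} (h : enc a = aA) : Nat.card ↥(CA a) = 480 := by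
  obtain ⟨t, ht, hs⟩ := exists_odd_A
  have e := cent_card (aA_type h) (by norm_num) hs (comm_of_list ht h (by decide +kernel))
  rw [show Nat.factorial (9 - 2 * 2) * 2 ^ 2 * Nat.factorial 2 = 960 from rfl] at e
  omega

theorem cardB {a : P9} (h : enc a = aB) : Nat.card ↥(CA a) = 192 := by
  obtain ⟨t, ht, hs⟩ := exists_odd_B
  have e := cent_card (aB_type h) (by norm_num) hs (comm_of_list ht h (by decide +kernel))
  rw [show Nat.factorial (9 - 2 * 4) * 2 ^ 4 * Nat.factorial 4 = 384 from rfl] at e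
  omega

/-- Every involution is conjugate within the even permutations to one of the two. -/
theorem classes {a : P9} (hA : a ∈ alternatingGroup (Fin 9)) (h2 : a * a = 1) (h1 : a ≠ 1) :
    ∃ g ∈ alternatingGroup (Fin 9), enc (g * a * g⁻¹) = aA ∨ enc (g * a * g⁻¹) = aB := by
  obtain ⟨n, hn, hn1, -, hn9⟩ := inv_cycleType h2 h1
  have hsign : Equiv.Perm.sign a = (-1 : ℤˣ) ^ n := by
    rw [Equiv.Perm.sign_of_cycleType, hn, Multiset.sum_replicate, Multiset.card_replicate, smul_eq_mul,
      pow_add, mul_comm n 2, pow_mul]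
    simp
  have hA' : Equiv.Perm.sign a = 1 := Equiv.Perm.mem_alternatingGroup.1 hA
  have hn24 : n = 2 ∨ n = 4 := by
    rw [hA'] at hsign
    have : n ≤ 4 := by omega
    interval_cases n <;> revert hsign <;> decide
  suffices H : ∀ (L : List ℕ) (b t : P9), enc b = L → b.cycleType = a.cycleType → Equiv.Perm.sign t = -1 →
      t * b = b * t → ∃ g ∈ alternatingGroup (Fin 9), enc (g * a * g⁻¹) = L by
    rcases hn24 with rfl | rfl
    · obtain ⟨b, hb, -⟩ := exists_perm aA (by decide +kernel)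
      obtain ⟨t, ht, hs⟩ := exists_odd_A
      obtain ⟨g, hg, e⟩ := H _ b t hb ((aA_type hb).trans hn.symm) hs (comm_of_list ht hb (by decide +kernel))
      exact ⟨g, hg, .inl e⟩
    · obtain ⟨b, hb, -⟩ := exists_perm aB (by decide +kernel)
      obtain ⟨t, ht, hs⟩ := exists_odd_B
      obtain ⟨g, hg, e⟩ := H _ b t hb ((aB_type hb).trans hn.symm) hs (comm_of_list ht hb (by decide +kernel))
      exact ⟨g, hg, .inr e⟩
  intro L b t hb hc hs htb
  obtain ⟨π, hπ⟩ := isConj_iff.1 (Equiv.Perm.isConj_iff_cycleType_eq.2 hc.symm)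
  rcases Int.units_eq_one_or (Equiv.Perm.sign π) with e | e
  · exact ⟨π, Equiv.Perm.mem_alternatingGroup.2 e, by rw [hπ, hb]⟩
  · refine ⟨t * π, Equiv.Perm.mem_alternatingGroup.2 (by rw [map_mul, hs, e]; rfl), ?_⟩
    rw [show t * π * a * (t * π)⁻¹ = t * (π * a * π⁻¹) * t⁻¹ by group, hπ, htb, mul_inv_cancel_right, hb]

end CfsgLib.ThType.Nine
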