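import Cfsg.Agent.Lib.ThType.Fusion.NineCent

/-!
# Normal two-subgroups inside the two centralisers
-/

set_option autoImplicit false
set_option maxRecDepth 100000

namespace CfsgLib.ThType.Nine

open Subgroup

theorem pgroup_conj {M : Subgroup P9} (hM : IsPGroup 2 ↥M) (k : P9) :
    IsPGroup 2 ↥(M.map (MulAut.conj k).toMonoidHom) := hM.map _

theorem card_conj' (M : Subgroup P9) (k : P9) :
    Nat.card ↥(M.map (MulAut.conj k).toMonoidHom) = Nat.card ↥M :=
  card_map_of_injective (MulEquiv.injective _)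

theorem mem_conj {M : Subgroup P9} {k x : P9} (h : x ∈ M.map (MulAut.conj k).toMonoidHom) :
    ∃ m ∈ M, k * m * k⁻¹ = x := by
  obtain ⟨m, hm, e⟩ := h
  exact ⟨m, hm, e⟩

variable {a : P9}

theorem exists_P0 (ha : enc a = aA) : ∃ P ≤ CA a, Nat.card ↥P = 2 ^ 5 ∧ ∀ p, p ∈ P ↔ encN p ∈ P0d := by
  obtain ⟨h1, h2⟩ := listGroup_card ha P0_grp P0_mem
  exact ⟨_, h2, h1, fun p => Iff.rfl⟩

theorem exists_P1 (ha : enc a = aB) : ∃ P ≤ CA a, Nat.card ↥P = 2 ^ 6 ∧ ∀ p, p ∈ P ↔ encN p ∈ P1d := by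
  obtain ⟨h1, h2⟩ := listGroup_card ha P1_grp P1_mem
  exact ⟨_, h2, h1, fun p => Iff.rfl⟩

/-- A two-subgroup normal in a subgroup of index at most two is small. -/
theorem smallA (ha : enc a = aA) {L M : Subgroup P9} (hL : L ≤ CA a) (hcL : 240 ≤ Nat.card ↥L) (hM : M ≤ L)
    (hn : ∀ l ∈ L, ∀ m ∈ M, l * m * l⁻¹ ∈ M) (h2 : IsPGroup 2 ↥M) : Nat.card ↥M < 8 := by
  obtain ⟨P, hP, hcP, hmem⟩ := exists_P0 ha
  obtain ⟨k, hk, hkM⟩ := conj_le hP (hM.trans hL) hcP (by rw [cardA ha]; decide) h2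
  have hsq : ∀ r ∈ CA a, r * r ∈ L := by
    intro r hr
    have h1 := (L.subgroupOf (CA a)).card_mul_index
    rw [Nat.card_congr (subgroupOfEquivOfLe hL).toEquiv, cardA ha] at h1
    have h0 : (L.subgroupOf (CA a)).index = 1 ∨ (L.subgroupOf (CA a)).index = 2 := by
      have hle : (L.subgroupOf (CA a)).index ≤ 2 := by nlinarith
      have hpos : (L.subgroupOf (CA a)).index ≠ 0 := fun e => by rw [e, mul_zero] at h1; omega
      omega
    rcases h0 with h | h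
    · have := index_eq_one.1 h
      exact mul_mem (subgroupOf_eq_top.1 this hr) (subgroupOf_eq_top.1 this hr)
    · exact mul_self_mem_of_index_two h ⟨r, hr⟩
  rw [← card_conj' M k]
  refine lt_of_le_of_lt (card_set_le _ smallL ?_) (lt_of_le_of_lt smallL_ok (by norm_num))
  intro x hx
  obtain ⟨m, hm, rfl⟩ := mem_conj hx
  refine List.mem_filter.2 ⟨(hmem _).1 (hkM m hm), List.all_eq_true.2 fun w hw => List.contains_iff_mem.2 ?_⟩
  -- the square and its root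
  obtain ⟨r, hr, hrw⟩ : ∃ r ∈ CA a, encN (r * r) = w := by
    have hroot : ∀ w ∈ Wd, ∃ x ∈ ([pk [0, 1, 2, 3, 7, 8, 4, 5, 6], pk [0, 1, 2, 3, 6, 4, 5, 7, 8],
        pk [0, 1, 2, 3, 5, 6, 7, 8, 4], pk [0, 1, 2, 3, 4, 7, 5, 6, 8]] : List ℕ),
        inC aA x = true ∧ pmN x x = w := by decide +kernel
    obtain ⟨x, -, hx1, hx2⟩ := hroot w hw
    obtain ⟨r, hr, e⟩ := of_inC ha hx1
    exact ⟨r, hr, by rw [pmN_encN, e, hx2]⟩
  rw [← hrw, cjN_encN]
  refine (hmem _).1 ?_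
  have hl : k⁻¹ * (r * r) * k ∈ L := by
    have := hsq (k⁻¹ * r * k) (mul_mem (mul_mem (inv_mem hk) hr) hk)
    rwa [show k⁻¹ * r * k * (k⁻¹ * r * k) = k⁻¹ * (r * r) * k by group] at this
  rw [show r * r * (k * m * k⁻¹) * (r * r)⁻¹ =
    k * (k⁻¹ * (r * r) * k * m * (k⁻¹ * (r * r) * k)⁻¹) * k⁻¹ by group]
  exact hkM _ (hn _ hl _ hm)

/-- A normal two-subgroup of order at least `32` is self-normalised. -/
theorem smallB' (ha : enc a = aA) {L M : Subgroup P9} (hL : L ≤ CA a) (hM : M ≤ L)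
    (hn : ∀ l ∈ L, ∀ m ∈ M, l * m * l⁻¹ ∈ M) (h2 : IsPGroup 2 ↥M) (h32 : 32 ≤ Nat.card ↥M) :
    Nat.card ↥L ≤ 32 := by
  classical
  obtain ⟨P, hP, hcP, hmem⟩ := exists_P0 ha
  obtain ⟨k, hk, hkM⟩ := conj_le hP (hM.trans hL) hcP (by rw [cardA ha]; decide) h2
  have hle : M.map (MulAut.conj k).toMonoidHom ≤ P := fun x hx => by
    obtain ⟨m, hm, rfl⟩ := mem_conj hx; exact hkM m hm
  have heq : M.map (MulAut.conj k).toMonoidHom = P :=
    eq_of_le_of_card_ge hle (by rw [card_conj', hcP]; exact h32)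
  -- the normaliser inside the centraliser
  let N : Subgroup P9 := CA a ⊓ Subgroup.normalizer (P : Set P9)
  have hLN : ∀ l ∈ L, k * l * k⁻¹ ∈ N := by
    intro l hl
    refine ⟨(show k * l * k⁻¹ ∈ CA a from mul_mem (mul_mem hk (hL hl)) (inv_mem hk)),
      mem_normalizer_iff.2 fun p => ⟨fun hp => ?_, fun hp => ?_⟩⟩
    · rw [← heq] at hp ⊢
      obtain ⟨m, hm, rfl⟩ := mem_conj hp
      exact ⟨l * m * l⁻¹, hn l hl m hm, by simp [mul_assoc]⟩
    · rw [← heq] at hp ⊢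
      obtain ⟨m, hm, e⟩ := mem_conj hp
      refine ⟨l⁻¹ * m * l, by simpa using hn _ (inv_mem hl) m hm, ?_⟩
      show k * (l⁻¹ * m * l) * k⁻¹ = p
      calc k * (l⁻¹ * m * l) * k⁻¹ = (k * l * k⁻¹)⁻¹ * (k * m * k⁻¹) * (k * l * k⁻¹) := by group
        _ = p := by rw [e]; group
  have h1 : Nat.card ↥L ≤ Nat.card ↥N :=
    Nat.card_le_card_of_injective (fun l => ⟨k * l.1 * k⁻¹, hLN l.1 l.2⟩) fun l l' e => by
      have e' : k * l.1 * k⁻¹ = k * l'.1 * k⁻¹ := congrArg Subtype.val e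
      exact Subtype.ext (by simpa using e')
  have h15 : 15 * Nat.card ↥N ≤ 480 := by
    have hks := ks_mem
    simp only [Bool.and_eq_true, List.all_eq_true, decide_eq_true_eq, beq_iff_eq] at hks
    have hel : ∀ i : Fin 15, ∃ g ∈ CA a, encN g = ksd.getD i 0 := fun i => of_inC ha (hks.1.1 _ (by
      rw [List.getD_eq_getElem _ _ (by rw [hks.2]; exact i.2)]; exact List.getElem_mem _))
    choose g hg hge using hel
    rw [← cardA ha, show (15 : ℕ) = Nat.card (Fin 15) by simp, ← Nat.card_prod]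
    refine Nat.card_le_card_of_injective (fun p => ⟨g p.1 * p.2.1, mul_mem (hg _) p.2.2.1⟩) ?_
    rintro ⟨i, n⟩ ⟨j, n'⟩ e
    have e' : g i * n.1 = g j * n'.1 := congrArg Subtype.val e
    by_cases hij : i = j
    · subst hij; exact Prod.ext rfl (Subtype.ext (mul_left_cancel e'))
    exfalso
    have hne : encN (g i) ≠ encN (g j) := by
      rw [hge, hge, List.getD_eq_getElem _ _ (by rw [hks.2]; exact i.2),
        List.getD_eq_getElem _ _ (by rw [hks.2]; exact j.2)]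
      exact fun h => hij (Fin.ext (hks.1.2.getElem_inj_iff.1 h))
    have hsep := sep_ok
    simp only [sepChk, List.all_eq_true, Bool.or_eq_true, beq_iff_eq, List.any_eq_true, Bool.not_eq_true',
      ← Bool.not_eq_true, List.contains_iff_mem] at hsep
    obtain ⟨q, hq, hnq⟩ := (hsep _ (show encN (g i) ∈ ksd by
      rw [hge, List.getD_eq_getElem _ _ (by rw [hks.2]; exact i.2)]; exact List.getElem_mem _) _
      (show encN (g j) ∈ ksd by
      rw [hge, List.getD_eq_getElem _ _ (by rw [hks.2]; exact j.2)]; exact List.getElem_mem _)).resolve_left hne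
    obtain ⟨p, -, rfl⟩ := of_inC ha (by
      have h := P0_mem
      simp only [Bool.and_eq_true, List.all_eq_true] at h
      exact h.1.1 q hq)
    have hnN : (g j)⁻¹ * g i ∈ N := by
      rw [show (g j)⁻¹ * g i = n'.1 * n.1⁻¹ by rw [eq_mul_inv_iff_mul_eq, mul_assoc, e', inv_mul_cancel_left]]
      exact mul_mem n'.2 (inv_mem n.2)
    refine hnq ?_
    rw [invN_encN, ← pmN_encN, cjN_encN]
    exact (hmem _).1 ((mem_normalizer_iff.1 hnN.2 p).1 ((hmem _).2 hq))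
  omega

theorem kB_elt (ha : enc a = aB) : ∃ k ∈ CA a, encN k = kBd := of_inC ha kB_mem

/-- No normal elementary group of order sixteen. -/
theorem elemB (ha : enc a = aB) {M : Subgroup P9} (hM : M ≤ CA a) (hn : ∀ l ∈ CA a, ∀ m ∈ M, l * m * l⁻¹ ∈ M)
    (he : ∀ m ∈ M, m * m = 1) : Nat.card ↥M ≠ 16 := by
  intro h16
  obtain ⟨P, hP, hcP, hmem⟩ := exists_P1 ha
  have h2 : IsPGroup 2 ↥M := IsPGroup.of_card (n := 4) (by rw [h16]; rfl)
  obtain ⟨k, hk, hkM⟩ := conj_le hP hM hcP (by rw [cardB ha]; decide) h2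
  obtain ⟨k', hk', hke⟩ := kB_elt ha
  have hin : ∀ m ∈ M, encN m ∈ P1d := fun m hm => by
    have h := hkM _ (hn _ (inv_mem hk) m hm)
    rw [show k * (k⁻¹ * m * k⁻¹⁻¹) * k⁻¹ = m by group] at h
    exact (hmem m).1 h
  have hcom : ∀ m ∈ M, ∀ m' ∈ M, m * m' = m' * m := fun m hm m' hm' => by
    have e := he _ (mul_mem hm hm')
    have i : ∀ x ∈ M, x⁻¹ = x := fun x hx => inv_eq_of_mul_eq_one_right (he x hx)
    rw [← i _ (mul_mem hm hm'), mul_inv_rev, i m hm, i m' hm']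
  have hX : ∀ m ∈ M, encN m ∈ XB := fun m hm => by
    refine List.mem_filter.2 ⟨hin m hm, ?_⟩
    rw [← hke, cjN_encN, ← pmN_encN, ← pmN_encN, ← pmN_encN, he m hm, encN_one,
      hcom m hm _ (hn k' hk' m hm)]
    simp [hin _ (hn k' hk' m hm)]
  have hY : ∀ m ∈ M, encN m ∈ YB := fun m hm => by
    refine List.mem_filter.2 ⟨hX m hm, Nat.ble_eq_true_of_le ?_⟩
    rw [← h16]
    exact card_set_le M _ fun m' hm' => List.mem_filter.2 ⟨hX m' hm', by
      rw [← pmN_encN, ← pmN_encN, hcom m hm m' hm', beq_self_eq_true]⟩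
  have := card_set_le M YB hY
  have := YB_ok
  omega

/-- No normal two-group of order `64`. -/
theorem twoB (ha : enc a = aB) {M : Subgroup P9} (hM : M ≤ CA a) (hn : ∀ l ∈ CA a, ∀ m ∈ M, l * m * l⁻¹ ∈ M)
    (h2 : IsPGroup 2 ↥M) : Nat.card ↥M ≠ 64 := by
  intro h64
  obtain ⟨P, hP, hcP, hmem⟩ := exists_P1 ha
  obtain ⟨k, hk, hkM⟩ := conj_le hP hM hcP (by rw [cardB ha]; decide) h2
  obtain ⟨k', hk', hke⟩ := kB_elt ha
  have hin : ∀ m ∈ M, encN m ∈ P1d := fun m hm => by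
    have h := hkM _ (hn _ (inv_mem hk) m hm)
    rw [show k * (k⁻¹ * m * k⁻¹⁻¹) * k⁻¹ = m by group] at h
    exact (hmem m).1 h
  have := card_set_le M TB fun m hm => List.mem_filter.2 ⟨hin m hm, by
    rw [← hke, cjN_encN]
    exact List.contains_iff_mem.2 (hin _ (hn k' hk' m hm))⟩
  have := TB_ok
  omega

end CfsgLib.ThType.Nine
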