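import Cfsg.Agent.Lib.ThType.Fusion.Main
import Cfsg.Agent.Lib.ThType.Fusion.Table
import Cfsg.Agent.Lib.ThType.Fusion.NineFacts

/-!
# The class table of an eight-dimensional space with an isometric action of `A₉`
-/

set_option autoImplicit false
set_option linter.unusedSectionVars false

namespace CfsgLib.ThType.Fusion

open Subgroup CfsgLib.ExtraNine CfsgLib.ThType.Nine

/-- The alternating group on nine points. -/
abbrev Al : Type := ↥(alternatingGroup (Fin 9))

/-- A faithful action of `A₉` by isometries. -/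
structure Rep {V : Type*} [AddCommGroup V] (S : QV V) where
  σ : Al →* Equiv.Perm V
  inj : Function.Injective σ
  iso : ∀ g, σ g ∈ S.Iso

namespace Rep

variable {V : Type*} [AddCommGroup V] {S : QV V} (R : Rep S)

/-- A subgroup of the image as a group of permutations of nine points. -/
def pull (L : Subgroup (Equiv.Perm V)) : Subgroup P9 := (L.comap R.σ).map (alternatingGroup (Fin 9)).subtype

theorem mem_pull {L : Subgroup (Equiv.Perm V)} {g : Al} : (g : P9) ∈ R.pull L ↔ R.σ g ∈ L := by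
  constructor
  · rintro ⟨y, hy, e⟩
    obtain rfl : y = g := Subtype.ext e
    exact hy
  · exact fun h => ⟨g, h, rfl⟩

theorem pull_mono {L M : Subgroup (Equiv.Perm V)} (h : M ≤ L) : R.pull M ≤ R.pull L :=
  map_mono (comap_mono h)

theorem pull_le (x : Al) {L : Subgroup (Equiv.Perm V)} (h : L ≤ cH R.σ.range (R.σ x)) :
    R.pull L ≤ CA (x : P9) := by
  rintro _ ⟨g, hg, rfl⟩
  refine ⟨g.2, mem_centralizer_singleton_iff.2 ?_⟩
  have e := mem_centralizer_singleton_iff.1 (h hg).2
  rw [← map_mul, ← map_mul] at e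
  exact congrArg Subtype.val (R.inj e)

theorem card_pull {L : Subgroup (Equiv.Perm V)} (h : L ≤ R.σ.range) : Nat.card ↥(R.pull L) = Nat.card ↥L := by
  rw [pull, card_map_of_injective (alternatingGroup (Fin 9)).subtype_injective, ← card_map_of_injective R.inj,
    map_comap_eq_self h]

theorem card_cH (x : Al) : Nat.card ↥(cH R.σ.range (R.σ x)) = Nat.card ↥(CA (x : P9)) := by
  rw [← R.card_pull inf_le_left]
  congr 2
  refine le_antisymm (R.pull_le x le_rfl) ?_
  rintro p ⟨hp, hc⟩
  refine ⟨⟨p, hp⟩, ⟨⟨_, rfl⟩, mem_centralizer_singleton_iff.2 ?_⟩, rfl⟩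
  rw [← map_mul, ← map_mul]
  exact congrArg R.σ (Subtype.ext (mem_centralizer_singleton_iff.1 hc))

theorem normal_pull {L M : Subgroup (Equiv.Perm V)} (h : NormalIn M L) :
    R.pull M ≤ R.pull L ∧ ∀ l ∈ R.pull L, ∀ m ∈ R.pull M, l * m * l⁻¹ ∈ R.pull M := by
  refine ⟨R.pull_mono h.1, ?_⟩
  rintro _ ⟨l, hl, rfl⟩ _ ⟨m, hm, rfl⟩
  refine ⟨l * m * l⁻¹, ?_, by simp⟩
  show R.σ (l * m * l⁻¹) ∈ M
  rw [map_mul, map_mul, map_inv]
  exact h.2 _ hl _ hm

theorem pgroup_pull {M : Subgroup (Equiv.Perm V)} (hM : M ≤ R.σ.range) (h : IsPGroup 2 ↥M) [Finite V] :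
    IsPGroup 2 ↥(R.pull M) := by
  haveI : Fact (Nat.Prime 2) := ⟨Nat.prime_two⟩
  obtain ⟨j, hj⟩ := h.exists_card_eq
  exact IsPGroup.of_card (n := j) (by rw [R.card_pull hM, hj])

theorem add (g : Al) (v w : V) : R.σ g (v + w) = R.σ g v + R.σ g w := (R.iso g).1 v w

variable [Finite V] {qf : ℕ → Bool} {f : ℕ → ℕ} (C : Coords S qf) {x : Al} (hx : C.IsCode (R.σ x) f)
include hx

theorem typeA (ha : enc (x : P9) = aA) (h1 : (fixL f).length = 16) (h2 : imageChk f = true)
    (h3 : twistChk qf f = false) : TypeA S R.σ.range (R.σ x) where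
  fix := C.fix_card hx h1
  image := C.fixImage hx h2
  plain h := by rw [(C.twisted_iff hx).1 h] at h3; exact absurd h3 (by decide)
  cent := by rw [R.card_cH, cardA ha]
  small L hL hcL M hM h2' := by
    rw [← R.card_pull (hM.1.trans (hL.trans inf_le_left))]
    exact smallA ha (R.pull_le x hL) (by rwa [R.card_pull (hL.trans inf_le_left)]) (R.normal_pull hM).1
      (R.normal_pull hM).2 (R.pgroup_pull (hM.1.trans (hL.trans inf_le_left)) h2')

theorem typeC (hb : enc (x : P9) = aB) (h1 : (fixL f).length = 16) (h2 : imageChk f = true)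
    (h3 : twistChk qf f = true) : TypeC S R.σ.range (R.σ x) where
  fix := C.fix_card hx h1
  image := C.fixImage hx h2
  twisted := (C.twisted_iff hx).2 h3
  cent := by rw [R.card_cH, cardB hb]
  elem M hM he := by
    rw [← R.card_pull (hM.1.trans inf_le_left)]
    have hfull : ∀ l ∈ CA (x : P9), l ∈ R.pull (cH R.σ.range (R.σ x)) := fun l hl =>
      ⟨⟨l, hl.1⟩, ⟨⟨_, rfl⟩, mem_centralizer_singleton_iff.2 (by
        rw [← map_mul, ← map_mul]
        exact congrArg R.σ (Subtype.ext (mem_centralizer_singleton_iff.1 hl.2)))⟩, rfl⟩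
    refine elemB hb (R.pull_le x hM.1) (fun l hl m hm => (R.normal_pull hM).2 l (hfull l hl) m hm) ?_
    rintro _ ⟨m, hm, rfl⟩
    rw [← map_mul]
    exact congrArg Subtype.val (R.inj (by rw [map_mul, map_one]; exact he _ hm) : m * m = 1)
  two M hM h := by
    rw [← R.card_pull (hM.1.trans inf_le_left)]
    have hfull : ∀ l ∈ CA (x : P9), l ∈ R.pull (cH R.σ.range (R.σ x)) := fun l hl =>
      ⟨⟨l, hl.1⟩, ⟨⟨_, rfl⟩, mem_centralizer_singleton_iff.2 (by
        rw [← map_mul, ← map_mul]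
        exact congrArg R.σ (Subtype.ext (mem_centralizer_singleton_iff.1 hl.2)))⟩, rfl⟩
    exact twoB hb (R.pull_le x hM.1) (fun l hl m hm => (R.normal_pull hM).2 l (hfull l hl) m hm)
      (R.pgroup_pull (hM.1.trans inf_le_left) h)

theorem typeB (ha : enc (x : P9) = aA) {bs : List ℕ} {wit : List (ℕ × ℕ)} (h1 : (fixL f).length = 64)
    (h2 : twistChk qf f = true) (hb : basisChk f bs wit = true) (h3 : radChk qf f bs wit = true)
    (h4 : zeroChk qf f bs wit 40 = true) : TypeB S R.σ.range (R.σ x) where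
  fix := C.fix_card hx h1
  twisted := (C.twisted_iff hx).2 h2
  rad := C.radSmall hx hb (R.add x) h3
  zero := C.zeroBound hx hb (R.add x) h4
  cent := by rw [R.card_cH, cardA ha]
  small L hL M hM h2' h32 := by
    rw [← R.card_pull (hL.trans inf_le_left)]
    exact smallB' ha (R.pull_le x hL) (R.normal_pull hM).1 (R.normal_pull hM).2
      (R.pgroup_pull (hM.1.trans (hL.trans inf_le_left)) h2')
      (by rwa [R.card_pull (hM.1.trans (hL.trans inf_le_left))])

omit hx

/-- The action composed with an inner automorphism. -/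
def twist (g : Al) : Rep S where
  σ := R.σ.comp (MulAut.conj g).toMonoidHom
  inj := R.inj.comp (MulEquiv.injective _)
  iso _ := R.iso _

theorem twist_apply (g h : Al) : (R.twist g).σ h = R.σ (g * h * g⁻¹) := rfl

theorem twist_range (g : Al) : (R.twist g).σ.range = R.σ.range := by
  refine le_antisymm ?_ ?_
  · rintro _ ⟨h, rfl⟩; exact ⟨_, rfl⟩
  · rintro _ ⟨h, rfl⟩
    exact ⟨g⁻¹ * h * g, congrArg R.σ (show g * (g⁻¹ * h * g) * g⁻¹ = h by group)⟩

/-- The coordinates moved by an element. -/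
def move (g : Al) : Coords S qf where
  c u := R.σ g (C.c u)
  xor u hu w hw := by rw [C.xor u hu w hw, R.add]
  inj u hu w hw h := C.inj u hu w hw ((R.σ g).injective h)
  surj v := by
    obtain ⟨u, hu, e⟩ := C.surj ((R.σ g).symm v)
    exact ⟨u, hu, by rw [e, Equiv.apply_symm_apply]⟩
  q u hu := by rw [(R.iso g).2, C.q u hu]

theorem move_code {g h : Al} {f : ℕ → ℕ} (hh : C.IsCode (R.σ h) f) :
    (R.move C g).IsCode ((R.twist g).σ h) f := by
  intro u hu
  refine ⟨(hh u hu).1, ?_⟩
  show R.σ (g * h * g⁻¹) (R.σ g (C.c u)) = R.σ g (C.c (f u))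
  rw [← Equiv.Perm.mul_apply, ← map_mul, inv_mul_cancel_right, map_mul, Equiv.Perm.mul_apply, (hh u hu).2]

/-- The table of classes. -/
theorem classes {fA fB : ℕ → ℕ} {gA gB : Al} (hgA : enc (gA : P9) = aA) (hgB : enc (gB : P9) = aB)
    (hA : C.IsCode (R.σ gA) fA) (hB : C.IsCode (R.σ gB) fB)
    (TA : ∀ (R' : Rep S) (C' : Coords S qf), C'.IsCode (R'.σ gA) fA →
      TypeA S R'.σ.range (R'.σ gA) ∨ TypeB S R'.σ.range (R'.σ gA))
    (TB : ∀ (R' : Rep S) (C' : Coords S qf), C'.IsCode (R'.σ gB) fB → TypeC S R'.σ.range (R'.σ gB)) :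
    Classes S R.σ.range := by
  rintro _ ⟨a, rfl⟩ h2 h1
  have ha2 : a * a = 1 := R.inj (by rw [map_mul, map_one, h2])
  obtain ⟨g, hg, hg'⟩ := Nine.classes a.2 (congrArg Subtype.val ha2)
    fun e => h1 (by rw [show a = 1 from Subtype.ext e, map_one])
  set k : Al := (⟨g, hg⟩ : Al)⁻¹ with hk
  have key : ∀ std : Al, (std : P9) = g * a * g⁻¹ → (R.twist k).σ std = R.σ a := fun std e => by
    rw [twist_apply]
    congr 1
    refine Subtype.ext ?_
    show g⁻¹ * (std : P9) * g⁻¹⁻¹ = a
    rw [e]; group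
  rcases hg' with e | e
  · rcases TA _ _ (R.move_code C (g := k) hA) with T | T <;>
      rw [key gA (enc_injective (hgA.trans e.symm)), R.twist_range] at T
    exacts [.inl T, .inr (.inr T)]
  · have T := TB _ _ (R.move_code C (g := k) hB)
    rw [key gB (enc_injective (hgB.trans e.symm)), R.twist_range] at T
    exact .inr (.inl T)

end Rep

end CfsgLib.ThType.Fusion
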