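import Mathlib.Data.Nat.Notation

/-!
# Tables of permutations of nine points, one hexadecimal digit a point
-/

set_option autoImplicit false

namespace CfsgLib.ThType.Nine

/-- A Sylow two-subgroup of the first centraliser. -/
def P0d : List ℕ :=
  [36344967696, 36092326416, 35776770576, 35524129296, 36093305616, 36343980816, 35525108496,
   35775783696, 36093309441, 36343984641, 35525112321, 35775787521, 36344963841, 36092322561,
   35776766721, 35524125441, 36344959026, 36092317746, 35776761906, 35524120626, 36093296946,
   36343972146, 35525099826, 35775775026, 36093300771, 36343975971, 35525103651, 35775778851,
   36344955171, 36092313891, 35776758051, 35524116771]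

/-- Fifteen elements separating conjugates of it. -/
def ksd : List ℕ :=
  [36344967696, 28040245776, 31815119376, 32302707216, 35825922576, 23494668816, 36061852176,
   23730598416, 27253813776, 27741401616, 31516275216, 23211553296, 19451425296, 18932380176,
   19168309776]

/-- A Sylow two-subgroup of the second centraliser. -/
def P1d : List ℕ :=
  [36344967696, 36092326416, 35776770576, 35524129296, 36093305616, 36343980816, 35525108496,
   35775783696, 36093309441, 36343984641, 35525112321, 35775787521, 36344963841, 36092322561,
   35776766721, 35524125441, 36344959026, 36092317746, 35776761906, 35524120626, 36093296946,
   36343972146, 35525099826, 35775775026, 36093300771, 36343975971, 35525103651, 35775778851,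
   36344955171, 36092313891, 35776758051, 35524116771, 35199678036, 34947036756, 34631480916,
   34378839636, 34948015956, 35198691156, 34379818836, 34630494036, 34948019781, 35198694981,
   34379822661, 34630497861, 35199674181, 34947032901, 34631477061, 34378835781, 35199669366,
   34947028086, 34631472246, 34378830966, 34948007286, 35198682486, 34379810166, 34630485366,
   34948011111, 35198686311, 34379813991, 34630489191, 35199665511, 34947024231, 34631468391,
   34378827111]

/-- Four squares in the first centraliser. -/
def Wd : List ℕ := [19451425296, 36312527376, 22690542096, 35825922576]

/-- An element of the second centraliser. -/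
def kBd : ℕ := 34954695681

end CfsgLib.ThType.Nine
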