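import Cfsg.Agent.Lib.ThType.Fusion.NineList
import Cfsg.Agent.Lib.ThType.Fusion.NineData

/-!
# Checks on permutations of nine points packed into numbers
-/

set_option autoImplicit false
set_option maxRecDepth 100000

namespace CfsgLib.ThType.Nine

/-- The digit. -/
def gN (x i : ℕ) : ℕ := (x >>> (4 * i)) &&& 15

/-- The packing of a list. -/
def pk (L : List ℕ) : ℕ := L.foldr (fun v acc => v + 16 * acc) 0

/-- The unpacking. -/
def dec (x : ℕ) : List ℕ := (List.range 9).map (gN x)

/-- The packed composite. -/
def pmN (a b : ℕ) : ℕ := pk ((List.range 9).map fun i => gN a (gN b i))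

/-- The packed inverse. -/
def invN (a : ℕ) : ℕ := (List.range 9).foldr (fun i acc => i <<< (4 * gN a i) + acc) 0

/-- The packed conjugate. -/
def cjN (k p : ℕ) : ℕ := pmN (pmN k p) (invN k)

/-- The packed identity. -/
def oneN : ℕ := pk one9

/-- An involution with four moved points. -/
def aA : List ℕ := [1, 0, 3, 2, 4, 5, 6, 7, 8]

/-- An involution with eight moved points. -/
def aB : List ℕ := [1, 0, 3, 2, 5, 4, 7, 6, 8]

/-- An even permutation commuting with the given one. -/
def inC (a : List ℕ) (x : ℕ) : Bool :=
  sorts (dec x) && evenL (dec x) && pk (dec x) == x && pmN x (pk a) == pmN (pk a) x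

/-- A packed subgroup. -/
def grpChk (l : List ℕ) : Bool := l.contains oneN && l.all fun x => l.all fun y => l.contains (pmN x y)

/-- The survivors for a small normal two-group. -/
def smallL : List ℕ := P0d.filter fun x => Wd.all fun w => P0d.contains (cjN w x)

/-- Separated conjugators. -/
def sepChk : Bool := ksd.all fun i => ksd.all fun j =>
  i == j || P0d.any fun q => !P0d.contains (cjN (pmN (invN j) i) q)

/-- The candidates for a normal elementary group. -/
def XB : List ℕ := P1d.filter fun x =>
  pmN x x == oneN && P1d.contains (cjN kBd x) && pmN x (cjN kBd x) == pmN (cjN kBd x) x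

/-- The members commuting with many others. -/
def YB : List ℕ := XB.filter fun p => Nat.ble 16 (XB.filter fun q => pmN p q == pmN q p).length

/-- The common part of two Sylow subgroups. -/
def TB : List ℕ := P1d.filter fun x => P1d.contains (cjN kBd x)

/-- Extension of packed prefixes. -/
def dfsN (ok : ℕ → ℕ → Bool) : ℕ → List ℕ
  | 0 => [0]
  | k + 1 => (dfsN ok k).flatMap fun L =>
      ((List.range 9).filter fun v => (List.range k).all fun j => !(gN L j == v)).filterMap fun v =>
        if ok (L + v <<< (4 * k)) k then some (L + v <<< (4 * k)) else none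

/-- The last digit keeps to the first points and to an involution. -/
def okI (k0 : ℕ) (L k : ℕ) : Bool :=
  (decide (gN L k < k0) == decide (k < k0)) && (!(Nat.ble (gN L k) k) || gN L (gN L k) == k) &&
    (List.range k).all fun j => !(gN L j == k) || gN L k == j

/-- Generators of two stabilisers of codes. -/
def gS : ℕ → List ℕ
  | 4 => [pk [1, 2, 0, 3, 4, 5, 6, 7, 8], pk [1, 0, 3, 2, 4, 5, 6, 7, 8], pk [0, 1, 2, 3, 5, 6, 4, 7, 8],
      pk [0, 1, 2, 3, 5, 6, 7, 8, 4], pk [1, 0, 2, 3, 5, 4, 6, 7, 8]]
  | _ => [pk [1, 2, 0, 3, 4, 5, 6, 7, 8], pk [0, 2, 3, 4, 5, 6, 7, 1, 8], pk [1, 0, 3, 2, 4, 5, 6, 7, 8],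
      pk [0, 1, 2, 4, 5, 3, 6, 7, 8], pk [0, 1, 2, 3, 4, 6, 7, 5, 8]]

/-- The involutions commuting with their conjugates by the generators. -/
def XS (k0 : ℕ) : List ℕ :=
  (dfsN (okI k0) 9).filter fun x => (gS k0).all fun g => pmN x (cjN g x) == pmN (cjN g x) x

theorem P0_mem : (P0d.all (inC aA) && decide P0d.Nodup && P0d.length == 32) = true := by decide +kernel

theorem P1_mem : (P1d.all (inC aB) && decide P1d.Nodup && P1d.length == 64) = true := by decide +kernel

theorem P0_grp : grpChk P0d = true := by decide +kernel

theorem P1_grp : grpChk P1d = true := by decide +kernel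

theorem ks_mem : (ksd.all (inC aA) && decide ksd.Nodup && ksd.length == 15) = true := by decide +kernel

theorem kB_mem : inC aB kBd = true := by decide +kernel

theorem sep_ok : sepChk = true := by decide +kernel

theorem smallL_ok : smallL.length ≤ 4 := by decide +kernel

theorem YB_ok : YB.length < 16 := by decide +kernel

theorem TB_ok : TB.length < 64 := by decide +kernel

theorem XS4_ok : (XS 4).length < 8 := by decide +kernel

theorem XS8_ok : (XS 8).length < 8 := by decide +kernel

theorem gS_ok : ((gS 4).all fun g => sorts (dec g) && evenL (dec g) && pk (dec g) == g) = true ∧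
    ((gS 8).all fun g => sorts (dec g) && evenL (dec g) && pk (dec g) == g) = true := by decide +kernel

end CfsgLib.ThType.Nine
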