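import Cfsg.Agent.Lib.ThType.Fusion.Classes
import Cfsg.Agent.Lib.ThType.Perm.Coded

/-!
# The deleted permutation module is impossible
-/

set_option autoImplicit false
set_option linter.unusedSectionVars false
set_option maxRecDepth 100000

namespace CfsgLib.ThType.Fusion

open Subgroup CfsgLib.ExtraNine CfsgLib.ThType.Nine CfsgLib.ThType.Perm

/-- Fixed basis and commutators of the involution with four moved points. -/
def permBasis : List ℕ := [1, 6, 24, 40, 72, 136]

/-- Witnesses of the commutators. -/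
def permWit : List (ℕ × ℕ) := [(0, 0), (2, 3), (8, 1), (10, 2)]

theorem perm_checksA : (fixL (actc aA)).length = 64 ∧ twistChk qp (actc aA) = true ∧
    basisChk (actc aA) permBasis permWit = true ∧ radChk qp (actc aA) permBasis permWit = true ∧
    zeroChk qp (actc aA) permBasis permWit 40 = true := by
  refine ⟨?_, ?_, ?_, ?_, ?_⟩ <;> decide +kernel

theorem perm_checksB : (fixL (actc aB)).length = 16 ∧ imageChk (actc aB) = true ∧ twistChk qp (actc aB) = true := by
  refine ⟨?_, ?_, ?_⟩ <;> decide +kernel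

theorem actc_lt (L : List ℕ) (h : ∀ i, L.getD i 0 < 9) (u : ℕ) : actc L u < 256 := by
  have hb : ∀ a < 9, bitP a < 256 := by decide +kernel
  unfold actc
  induction List.range 8 with
  | nil => simp
  | cons i l ih =>
    rw [List.foldr_cons]
    split_ifs
    · exact Nat.xor_lt_two_pow (n := 8) (Nat.xor_lt_two_pow (n := 8) (hb _ (h _)) (hb _ (h _))) ih
    · exact ih

theorem pc_lt (a b : Fin 9) : pc (a : ℕ) (b : ℕ) < 256 := by revert a b; decide +kernel

/-- The subset with the given code. -/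
def setL (u : ℕ) : List ℕ :=
  let ins := fun i : ℕ => if i = 0 then bits8 u % 2 == 1 else Nat.testBit u (i - 1)
  let A := (List.range 9).filter ins
  let B := (List.range 9).filter fun i => !ins i
  if evenL (A ++ B) then A ++ B
  else match A with
    | a :: b :: r => b :: a :: r ++ B
    | _ => A ++ B

/-- Singular codes are images of two of them. -/
def orbChk (u : ℕ) : Bool :=
  u == 0 || qp u || (sorts (setL u) && evenL (setL u) && (actc (setL u) 7 == u || actc (setL u) 127 == u))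

theorem orb_ok : ((List.range 256).all orbChk) = true := by decide +kernel

theorem chi_ok : ∀ a b : Fin 9,
    (Bq qp 7 (pc (a : ℕ) (b : ℕ)) = !(decide ((a : ℕ) < 4) == decide ((b : ℕ) < 4))) ∧
    (Bq qp 127 (pc (a : ℕ) (b : ℕ)) = !(decide ((a : ℕ) < 8) == decide ((b : ℕ) < 8))) := by decide +kernel

theorem part_ok : ∀ s : Fin 9 → Bool,
    ((∀ i j : Fin 9, (s i == s j) = (decide ((i : ℕ) < 4) == decide ((j : ℕ) < 4))) →
      (Finset.univ.filter fun i => s i = true).card = 4 → ∀ i, s i = decide ((i : ℕ) < 4)) ∧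
    ((∀ i j : Fin 9, (s i == s j) = (decide ((i : ℕ) < 8) == decide ((j : ℕ) < 8))) →
      (Finset.univ.filter fun i => s i = true).card = 8 → ∀ i, s i = decide ((i : ℕ) < 8)) := by decide +kernel

theorem gS_fix : (∀ x ∈ gS 4, actc (dec x) 7 = 7) ∧ (∀ x ∈ gS 8, actc (dec x) 127 = 127) := by
  refine ⟨?_, ?_⟩ <;> decide +kernel

theorem dfsN_mem {ok : ℕ → ℕ → Bool} {p : P9} (hok : ∀ k < 9, ok (encN p % 16 ^ (k + 1)) k = true) :
    ∀ n ≤ 9, encN p % 16 ^ n ∈ dfsN ok n := by
  intro n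
  induction n with
  | zero => intro _; simp [dfsN, Nat.mod_one]
  | succ n ih =>
    intro hn
    have hd : ∀ i < n + 1, gN (encN p % 16 ^ (n + 1)) i = gN (encN p) i := fun i hi => by
      simp only [gN, show (15 : ℕ) = 2 ^ 4 - 1 from rfl, Nat.and_two_pow_sub_one_eq_mod, Nat.shiftRight_eq_div_pow,
        show (16 : ℕ) ^ (n + 1) = 2 ^ (4 * (n + 1)) by rw [pow_mul]; norm_num]
      rw [show 4 * (n + 1) = 4 * i + (4 * (n + 1 - i)) by omega, pow_add, Nat.mod_mul_right_div_self,
        Nat.mod_mod_of_dvd]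
      exact pow_dvd_pow 2 (by omega)
    set v := gN (encN p) n with hv
    have hv9 : v < 9 := by rw [hv, gN_encN p ⟨n, by omega⟩]; omega
    have e : encN p % 16 ^ (n + 1) = encN p % 16 ^ n + v <<< (4 * n) := by
      rw [Nat.pow_succ, Nat.mod_mul, Nat.shiftLeft_eq, hv, gN, show (15 : ℕ) = 2 ^ 4 - 1 from rfl,
        Nat.and_two_pow_sub_one_eq_mod, Nat.shiftRight_eq_div_pow,
        show (16 : ℕ) ^ n = 2 ^ (4 * n) by rw [pow_mul]; norm_num]
      ring
    rw [dfsN, List.mem_flatMap]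
    refine ⟨_, ih (by omega), List.mem_filterMap.2 ⟨v, List.mem_filter.2 ⟨List.mem_range.2 hv9, ?_⟩, ?_⟩⟩
    · rw [List.all_eq_true]
      intro j hj
      rw [List.mem_range] at hj
      have hdj : gN (encN p % 16 ^ n) j = gN (encN p) j := by
        simp only [gN, show (15 : ℕ) = 2 ^ 4 - 1 from rfl, Nat.and_two_pow_sub_one_eq_mod,
          Nat.shiftRight_eq_div_pow, show (16 : ℕ) ^ n = 2 ^ (4 * n) by rw [pow_mul]; norm_num]
        rw [show 4 * n = 4 * j + (4 * (n - j)) by omega, pow_add, Nat.mod_mul_right_div_self, Nat.mod_mod_of_dvd]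
        exact pow_dvd_pow 2 (by omega)
      rw [hdj, hv, gN_encN p ⟨j, by omega⟩, gN_encN p ⟨n, by omega⟩, Bool.not_eq_true', beq_eq_false_iff_ne]
      intro h
      have := p.injective (Fin.ext h)
      simp at this
      omega
    · rw [← e, if_pos (hok n (by omega))]

theorem mem_XS {p : P9} (h2 : p * p = 1) {k0 : ℕ} (hk : ∀ i : Fin 9, (p i : ℕ) < k0 ↔ (i : ℕ) < k0)
    (hc : ∀ g ∈ gS k0, ∃ q : P9, encN q = g ∧ p * (q * p * q⁻¹) = q * p * q⁻¹ * p) : encN p ∈ XS k0 := by
  have hinv : ∀ i : Fin 9, p (p i) = i := fun i => by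
    rw [← Equiv.Perm.mul_apply, h2]; rfl
  refine List.mem_filter.2 ⟨?_, List.all_eq_true.2 fun g hg => ?_⟩
  · have h := dfsN_mem (ok := okI k0) (p := p) (fun k hk9 => ?_) 9 le_rfl
    · rwa [Nat.mod_eq_of_lt] at h
      have hlen : ∀ L : List ℕ, (∀ v ∈ L, v < 16) → pk L < 16 ^ L.length := fun L => by
        induction L with
        | nil => intro _; simp [pk]
        | cons v L ih =>
          intro hL
          have h1 := hL v List.mem_cons_self
          have h2 := ih fun w hw => hL w (List.mem_cons_of_mem _ hw)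
          show v + 16 * pk L < 16 ^ (L.length + 1)
          rw [pow_succ]
          omega
      have := hlen _ (enc_lt p)
      rwa [enc_length] at this
    · have hd : ∀ j ≤ k, gN (encN p % 16 ^ (k + 1)) j = (p ⟨j % 9, Nat.mod_lt _ (by norm_num)⟩ : ℕ) := fun j hj => by
        rw [← gN_encN p ⟨j % 9, _⟩]
        simp only [gN, show (15 : ℕ) = 2 ^ 4 - 1 from rfl, Nat.and_two_pow_sub_one_eq_mod, Nat.shiftRight_eq_div_pow,
          show (16 : ℕ) ^ (k + 1) = 2 ^ (4 * (k + 1)) by rw [pow_mul]; norm_num,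
          Nat.mod_eq_of_lt (show j < 9 by omega)]
        rw [show 4 * (k + 1) = 4 * j + (4 * (k + 1 - j)) by omega, pow_add, Nat.mod_mul_right_div_self,
          Nat.mod_mod_of_dvd]
        exact pow_dvd_pow 2 (by omega)
      have hk' : (⟨k % 9, Nat.mod_lt _ (by norm_num)⟩ : Fin 9) = ⟨k, hk9⟩ := Fin.ext (Nat.mod_eq_of_lt hk9)
      simp only [okI, Bool.and_eq_true, Bool.or_eq_true, Bool.not_eq_true', List.all_eq_true, beq_iff_eq,
        List.mem_range]
      rw [hd k le_rfl, hk']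
      refine ⟨⟨?_, ?_⟩, fun j hj => ?_⟩
      · exact decide_eq_decide.2 (hk ⟨k, hk9⟩)
      · by_cases hle : (p ⟨k, hk9⟩ : ℕ) ≤ k
        · right
          rw [hd _ hle]
          have e : (⟨(p ⟨k, hk9⟩ : ℕ) % 9, Nat.mod_lt _ (by norm_num)⟩ : Fin 9) = p ⟨k, hk9⟩ :=
            Fin.ext (Nat.mod_eq_of_lt (p ⟨k, hk9⟩).2)
          rw [e, hinv]
        · left
          rw [← Bool.not_eq_true, Nat.ble_eq]
          exact hle
      · rw [hd j (by omega), show (⟨j % 9, Nat.mod_lt _ (by norm_num)⟩ : Fin 9) = ⟨j, by omega⟩ from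
          Fin.ext (Nat.mod_eq_of_lt (by omega))]
        rw [← Bool.not_eq_true, beq_iff_eq]
        by_cases hpj : (p ⟨j, by omega⟩ : ℕ) = k
        · right
          rw [show (⟨k, hk9⟩ : Fin 9) = p ⟨j, by omega⟩ from Fin.ext hpj.symm, hinv]
        · exact .inl hpj
  · obtain ⟨q, rfl, hq⟩ := hc g hg
    rw [cjN_encN, ← pmN_encN, ← pmN_encN, hq, beq_self_eq_true]

variable {G : Type*} [Group G] [Finite G] {V : Type*} [AddCommGroup V] {N : Nine G V}

/-- A three-cycle with a fixed vector contradicts non-isolation of the central involution. -/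
theorem not_fixing (R : Rep N.S) (hr : R.σ.range = N.ρ.range) (hcard : Nat.card V = 256)
    (hfix : ∃ f : V, f ≠ 0 ∧ R.σ (cy 0 1 2) f = f)
    (hG : centralizer ({N.z} : Set G) ⊔ Cfsg.oddCore G ≠ ⊤) : False := by
  haveI : Finite V := Nat.finite_of_card_ne_zero (by rw [hcard]; norm_num)
  letI := Fintype.ofFinite V
  let D : Fixing V :=
    { σ := R.σ
      add := R.add
      two := N.S.two
      card := hcard
      inj := R.inj
      fix := hfix }
  let C : Coords N.S qp := D.coords N.S R.iso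
  have hcode : ∀ g : A9, C.IsCode (R.σ g) (actc (enc (g : P9))) := fun g u _ =>
    ⟨actc_lt _ (fun i => by
      by_cases hi : i < 9
      · rw [show (enc (g : P9)).getD i 0 = ((g : P9) ⟨i, hi⟩ : ℕ) from enc_getElem _ ⟨i, hi⟩]; omega
      · rw [List.getD_eq_default _ _ (by rw [enc_length]; omega)]; norm_num) u, D.c_act g u⟩
  obtain ⟨gA, hgA⟩ := exists_el aA (by decide +kernel)
  obtain ⟨gB, hgB⟩ := exists_el aB (by decide +kernel)
  obtain ⟨a1, a2, a3, a4, a5⟩ := perm_checksA
  obtain ⟨b1, b2, b3⟩ := perm_checksB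
  have hcl : Classes N.S N.ρ.range := hr ▸ R.classes C hgA hgB (hgA ▸ hcode gA) (hgB ▸ hcode gB)
    (fun R' C' h => .inr (R'.typeB C' h hgA a1 a2 a3 a4 a5)) (fun R' C' h => R'.typeC C' h hgB b1 b2 b3)
  obtain ⟨g, hx, hne⟩ := exists_inQ hcl hG
  refine hne (no_inQ ?_ hx)
  intro v hv hqv M hM he hfixM hnorm
  obtain ⟨u, hu, rfl⟩ := C.surj v
  have hu0 : u ≠ 0 := fun h => hv (by rw [h]; exact C.c_zero)
  have hqu : qp u = false := b2z_inj (b := false) ((C.q u hu).symm.trans hqv)
  have ho := List.all_eq_true.1 orb_ok u (List.mem_range.2 hu)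
  simp only [orbChk, hqu, Bool.or_false, Bool.or_eq_true, Bool.and_eq_true, beq_iff_eq, hu0, false_or] at ho
  obtain ⟨h, hh⟩ := exists_el (setL u) (by rw [ho.1.1, ho.1.2]; rfl)
  suffices H : ∀ u0 k0 : ℕ, u0 < 256 → actc (setL u) u0 = u → (XS k0).length < 8 →
      (∀ x ∈ gS k0, actc (dec x) u0 = u0) →
      ((gS k0).all fun g => sorts (dec g) && evenL (dec g) && pk (dec g) == g) = true →
      (∀ p : A9, R.σ p (C.c u0) = C.c u0 → ∀ i : Fin 9, ((p : P9) i : ℕ) < k0 ↔ (i : ℕ) < k0) →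
      Nat.card ↥M < 8 by
    rcases ho.2 with e | e
    · refine H 7 4 (by norm_num) e XS4_ok gS_fix.1 gS_ok.1 fun p hp i => ?_
      refine (fun hs : ∀ i, decide (((p : P9) i : ℕ) < 4) = decide ((i : ℕ) < 4) => decide_eq_decide.1 (hs i)) ?_
      refine (part_ok fun i => decide (((p : P9) i : ℕ) < 4)).1 (fun i j => ?_) ?_
      · have e1 := D.B_inv N.S R.iso p (C.c 7) (D.p i j)
        rw [hp, D.p_equi, show D.p ((p : P9) i) ((p : P9) j) = C.c (pc ((p : P9) i : ℕ) ((p : P9) j : ℕ)) from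
          (D.c_pc _ _).symm, show D.p i j = C.c (pc (i : ℕ) (j : ℕ)) from (D.c_pc _ _).symm,
          C.B_c (by norm_num) (pc_lt _ _), C.B_c (by norm_num) (pc_lt _ _)] at e1
        have e2 := b2z_inj e1
        rw [(chi_ok _ _).1, (chi_ok _ _).1, Bool.not_inj_iff] at e2
        exact e2
      · have hc : (Finset.univ.filter fun i : Fin 9 => (i : ℕ) < 4).card = 4 := by decide
        exact (Finset.card_equiv (p : P9) fun i => by simp).trans hc
    · refine H 127 8 (by norm_num) e XS8_ok gS_fix.2 gS_ok.2 fun p hp i => ?_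
      refine (fun hs : ∀ i, decide (((p : P9) i : ℕ) < 8) = decide ((i : ℕ) < 8) => decide_eq_decide.1 (hs i)) ?_
      refine (part_ok fun i => decide (((p : P9) i : ℕ) < 8)).2 (fun i j => ?_) ?_
      · have e1 := D.B_inv N.S R.iso p (C.c 127) (D.p i j)
        rw [hp, D.p_equi, show D.p ((p : P9) i) ((p : P9) j) = C.c (pc ((p : P9) i : ℕ) ((p : P9) j : ℕ)) from
          (D.c_pc _ _).symm, show D.p i j = C.c (pc (i : ℕ) (j : ℕ)) from (D.c_pc _ _).symm,
          C.B_c (by norm_num) (pc_lt _ _), C.B_c (by norm_num) (pc_lt _ _)] at e1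
        have e2 := b2z_inj e1
        rw [(chi_ok _ _).2, (chi_ok _ _).2, Bool.not_inj_iff] at e2
        exact e2
      · have hc : (Finset.univ.filter fun i : Fin 9 => (i : ℕ) < 8).card = 8 := by decide
        exact (Finset.card_equiv (p : P9) fun i => by simp).trans hc
  intro u0 k0 hu0' hact hlen hgfix hgok hpart
  have hcu : R.σ h (C.c u0) = C.c u := by
    rw [((hcode h) u0 hu0').2, hh, hact]
  rw [← R.card_pull (hr ▸ hM : M ≤ R.σ.range)]
  -- transport to the standard code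
  rw [← card_conj' (R.pull M) (h : P9)⁻¹]
  refine lt_of_le_of_lt (card_set_le _ (XS k0) ?_) hlen
  rintro _ ⟨_, ⟨m, hm, rfl⟩, rfl⟩
  set p : A9 := h⁻¹ * m * h with hp
  have hpval : (MulAut.conj (h : P9)⁻¹).toMonoidHom ((alternatingGroup (Fin 9)).subtype m) = (p : P9) := by
    simp [hp, mul_assoc]
  rw [hpval]
  have hm2 : m * m = 1 := R.inj (by rw [map_mul, map_one]; exact he _ hm)
  have hpfix : R.σ p (C.c u0) = C.c u0 := by
    rw [hp, map_mul, map_mul, Equiv.Perm.mul_apply, Equiv.Perm.mul_apply, hcu, hfixM _ hm, ← hcu,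
      ← Equiv.Perm.mul_apply, ← map_mul, inv_mul_cancel, map_one]
    rfl
  refine mem_XS ?_ (hpart p hpfix) fun x hx => ?_
  · show (p : P9) * p = 1
    have : p * p = 1 := by
      rw [hp, show h⁻¹ * m * h * (h⁻¹ * m * h) = h⁻¹ * (m * m) * h by group, hm2]; group
    exact congrArg Subtype.val this
  · have hx' := List.all_eq_true.1 hgok x hx
    simp only [Bool.and_eq_true, beq_iff_eq] at hx'
    obtain ⟨q, hq⟩ := exists_el (dec x) (by rw [hx'.1.1, hx'.1.2]; rfl)
    refine ⟨(q : P9), by rw [encN, hq, hx'.2], ?_⟩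
    have hqfix : R.σ q (C.c u0) = C.c u0 := by rw [((hcode q) u0 hu0').2, hq, hgfix x hx]
    -- the conjugating element fixes the vector
    set k : A9 := h * q * h⁻¹ with hk
    have hkv : R.σ k (C.c u) = C.c u := by
      rw [← hcu, ← Equiv.Perm.mul_apply, ← map_mul, hk, inv_mul_cancel_right, map_mul, Equiv.Perm.mul_apply, hqfix]
    have hmem := hnorm _ (hr ▸ ⟨k, rfl⟩) hkv _ hm
    have hc : R.σ m * (R.σ k * R.σ m * (R.σ k)⁻¹) = R.σ k * R.σ m * (R.σ k)⁻¹ * R.σ m := by
      have i : ∀ y ∈ M, y⁻¹ = y := fun y hy => inv_eq_of_mul_eq_one_right (he y hy)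
      rw [← i _ (mul_mem hm hmem), mul_inv_rev, i _ hm, i _ hmem]
    rw [← map_inv, ← map_mul, ← map_mul, ← map_mul, ← map_mul] at hc
    have hc' := congrArg (fun y => h⁻¹ * y * h) (R.inj hc)
    have e1 : p * (q * p * q⁻¹) = q * p * q⁻¹ * p := by
      rw [hp, show h⁻¹ * m * h * (q * (h⁻¹ * m * h) * q⁻¹) = h⁻¹ * (m * (k * m * k⁻¹)) * h by rw [hk]; group,
        show q * (h⁻¹ * m * h) * q⁻¹ * (h⁻¹ * m * h) = h⁻¹ * (k * m * k⁻¹ * m) * h by rw [hk]; group]
      exact hc'
    exact congrArg Subtype.val e1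

end CfsgLib.ThType.Fusion
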